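import Cfsg.Agent.H377.TwoConv.Basic
import Cfsg.Agent.SmallSimple.DegreeData

/-!
# S4908: an upper bound for the number of conjugacy classes (helper757)

`g_p` a `p`-element of `T` for all `p ∈ L`: `k(T) ≤ ∑ |C_T(g_p)| + |T| / (∏ p)²`: at most `|C_T(g_p)|` irreducible
characters do not vanish at `g_p`, in particular at most that many have degree prime to `p`; the degrees of the others are
divisible by `∏ p`.
-/

set_option autoImplicit false

universe u v

namespace Cfsg.Agent.H757.S8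

open Subgroup Cfsg Cfsg.Agent.Characters.Core Cfsg.Agent.H504.Zeros Cfsg.Agent.H377.TwoConv

/-- **class number bound** -/
theorem k_le' {T : Type u} [Group T] [Finite T] (L : Finset ℕ) (c : ℕ → ℕ)
    (h : ∀ p ∈ L, p.Prime ∧ ∃ g : T, (∃ k : ℕ, orderOf g = p ^ k) ∧ Nat.card (centralizer ({g} : Set T)) ≤ c p) :
    Nat.card (ConjClasses T) ≤ ∑ p ∈ L, c p + Nat.card T / (∏ p ∈ L, p) ^ 2 := by
  classical
  have := finite_irr (G := T)
  have := Fintype.ofFinite (IrrCharacter T)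
  rw [← card_irr, Nat.card_eq_fintype_card, ← Finset.card_univ]
  let A : ℕ → Finset (IrrCharacter T) := fun p => Finset.univ.filter fun χ => ¬ p ∣ charDegree (χ : T → ℂ)
  let B : Finset (IrrCharacter T) := Finset.univ.filter fun χ => ∀ p ∈ L, p ∣ charDegree (χ : T → ℂ)
  have hcov : (Finset.univ : Finset (IrrCharacter T)) ⊆ L.biUnion A ∪ B := by
    intro χ _
    rw [Finset.mem_union]
    by_cases hχ : ∀ p ∈ L, p ∣ charDegree (χ : T → ℂ)
    · right
      exact Finset.mem_filter.2 ⟨Finset.mem_univ _, hχ⟩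
    · left
      push Not at hχ
      obtain ⟨p, hp, hd⟩ := hχ
      exact Finset.mem_biUnion.2 ⟨p, hp, Finset.mem_filter.2 ⟨Finset.mem_univ _, hd⟩⟩
  have hA : ∀ p ∈ L, (A p).card ≤ c p := by
    intro p hp
    obtain ⟨hpp, g, hg, hc⟩ := h p hp
    refine le_trans ?_ ((nv_le_card_centralizer g).trans hc)
    have e : nv g = (Finset.univ.filter fun χ : IrrCharacter T => (χ : T → ℂ) g ≠ 0).card := by
      rw [nv, Nat.card_eq_fintype_card, Fintype.card_subtype]
    rw [e]
    apply Finset.card_le_card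
    intro χ hχ
    exact Finset.mem_filter.2 ⟨Finset.mem_univ _, ne_zero_of_not_dvd hpp (Finset.mem_filter.1 hχ).2 hg⟩
  have hprod : 0 < ∏ p ∈ L, p := Finset.prod_pos fun p hp => (h p hp).1.pos
  have hB : B.card * (∏ p ∈ L, p) ^ 2 ≤ Nat.card T := by
    rw [← Cfsg.Agent.SmallSimple.DegreeData.sum_sq (G := T), ← smul_eq_mul, ← Finset.sum_const]
    refine (Finset.sum_le_sum (f := fun _ => (∏ p ∈ L, p) ^ 2) (g := fun χ : IrrCharacter T =>
      charDegree (χ : T → ℂ) ^ 2) fun χ hχ => ?_).trans (Finset.sum_le_sum_of_subset (Finset.subset_univ B))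
    apply Nat.pow_le_pow_left
    apply Nat.le_of_dvd
    · rw [Nat.pos_iff_ne_zero]
      intro h0
      exact isIrr_apply_one_ne_zero χ.2 ((deg_eq χ).2 h0 |>.trans (by norm_num))
    · exact Finset.prod_primes_dvd _ (fun p hp => (h p hp).1.prime) (Finset.mem_filter.1 hχ).2
  calc (Finset.univ : Finset (IrrCharacter T)).card ≤ (L.biUnion A ∪ B).card := Finset.card_le_card hcov
    _ ≤ (L.biUnion A).card + B.card := Finset.card_union_le _ _
    _ ≤ ∑ p ∈ L, c p + Nat.card T / (∏ p ∈ L, p) ^ 2 := by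
      apply Nat.add_le_add
      · exact Finset.card_biUnion_le.trans (Finset.sum_le_sum hA)
      · rw [Nat.le_div_iff_mul_le (by positivity)]
        exact hB

/-- the centralizer in a subgroup -/
theorem card_cent_le {X : Type v} [Group X] [Finite X] (T : Subgroup X) (g : T) :
    Nat.card (centralizer ({g} : Set T)) ∣ Nat.card (centralizer ({(g : X)} : Set X)) := by
  have e : (centralizer ({g} : Set T)).map T.subtype ≤ centralizer ({(g : X)} : Set X) := by
    rintro _ ⟨y, hy, rfl⟩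
    rw [mem_centralizer_singleton_iff]
    exact congrArg Subtype.val (mem_centralizer_singleton_iff.1 hy)
  rw [Nat.card_congr ((centralizer ({g} : Set T)).equivMapOfInjective _ T.subtype_injective).toEquiv]
  exact card_dvd_of_le e

/-- **class number of a subgroup**, centralizers in the whole group -/
theorem k_le {X : Type v} [Group X] [Finite X] (T : Subgroup X) (L : Finset ℕ) (c : ℕ → ℕ)
    (h : ∀ p ∈ L, p.Prime ∧ ∃ g ∈ T, (∃ k : ℕ, orderOf g = p ^ k) ∧ Nat.card (centralizer ({g} : Set X)) ≤ c p) :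
    Nat.card (ConjClasses T) ≤ ∑ p ∈ L, c p + Nat.card T / (∏ p ∈ L, p) ^ 2 := by
  refine k_le' L c fun p hp => ?_
  obtain ⟨h1, g, hgT, ⟨k, hk⟩, hc⟩ := h p hp
  exact ⟨h1, ⟨g, hgT⟩, ⟨k, by rw [Subgroup.orderOf_mk]; exact hk⟩,
    (Nat.le_of_dvd Nat.card_pos (card_cent_le T ⟨g, hgT⟩)).trans hc⟩

/-- finer: `|C_T(g)|` divides `|T|` and `|C_X(g)|` -/
theorem k_le_gcd {X : Type v} [Group X] [Finite X] (T : Subgroup X) (L : Finset ℕ) (c : ℕ → ℕ)
    (h : ∀ p ∈ L, p.Prime ∧ ∃ g ∈ T, (∃ k : ℕ, orderOf g = p ^ k) ∧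
      Nat.gcd (Nat.card (centralizer ({g} : Set X))) (Nat.card T) ≤ c p) :
    Nat.card (ConjClasses T) ≤ ∑ p ∈ L, c p + Nat.card T / (∏ p ∈ L, p) ^ 2 := by
  refine k_le' L c fun p hp => ?_
  obtain ⟨h1, g, hgT, ⟨k, hk⟩, hc⟩ := h p hp
  refine ⟨h1, ⟨g, hgT⟩, ⟨k, by rw [Subgroup.orderOf_mk]; exact hk⟩, le_trans ?_ hc⟩
  exact Nat.le_of_dvd (Nat.gcd_pos_of_pos_left _ Nat.card_pos)
    (Nat.dvd_gcd (card_cent_le T ⟨g, hgT⟩) (Subgroup.card_subgroup_dvd_card _))

end Cfsg.Agent.H757.S8
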