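import Cfsg.Agent.H704.S8.Defs
import Cfsg.Agent.H757.S8.KLe
import Cfsg.Agent.H697.ClassCount

/-!
# S4908, FROB: transport, `p`-elements (helper757)
-/

set_option autoImplicit false

namespace Cfsg.Agent.H757.S8

open Subgroup Cfsg.Agent.H704.S8

universe u v

theorem card_comap_e {X : Type u} {Y : Type v} [Group X] [Group Y] (e : X ≃* Y) (P : Subgroup Y) :
    Nat.card (P.comap e.toMonoidHom) = Nat.card P :=
  Nat.card_congr
    { toFun := fun x => ⟨e x, x.2⟩
      invFun := fun y => ⟨e.symm y, by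
        rw [mem_comap]
        change e (e.symm (y : Y)) ∈ P
        rw [e.apply_symm_apply]
        exact y.2⟩
      left_inv := fun x => Subtype.ext (e.symm_apply_apply _)
      right_inv := fun y => Subtype.ext (e.apply_symm_apply _) }

/-- `FrobRow` is invariant under isomorphisms -/
theorem frobRow_congr {X : Type u} {Y : Type v} [Group X] [Group Y] (e : X ≃* Y) {c : ℕ} {D : Set ℕ}
    (h : FrobRow c D Y) : FrobRow c D X := by
  obtain ⟨P, Q, h1, h2, h3, h4, h5⟩ := h
  refine ⟨P.comap e.toMonoidHom, Q.comap e.toMonoidHom, by rw [card_comap_e]; exact h1, ?_, ?_, ?_, ?_⟩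
  · intro g hg
    have hg' := h2 (mem_comap.1 hg)
    rw [mem_normalizer_iff] at hg' ⊢
    intro x
    rw [mem_comap, mem_comap]
    have := hg' (e x)
    change e x ∈ P ↔ e (g * x * g⁻¹) ∈ P
    rw [map_mul, map_mul, map_inv]
    exact this
  · intro u hu g hg hgu
    have := h3 (e u) (mem_comap.1 hu) (e g) (mem_comap.1 hg) (by rw [← map_mul, ← map_mul, hgu])
    rcases this with h | h
    · exact Or.inl (e.injective (by rw [h, map_one]))
    · exact Or.inr (e.injective (by rw [h, map_one]))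
  · intro h
    apply h4
    rw [eq_bot_iff]
    intro y hy
    have h6 : e.symm y ∈ Q.comap e.toMonoidHom := by
      rw [mem_comap]
      change e (e.symm y) ∈ Q
      rwa [e.apply_symm_apply]
    rw [h, mem_bot] at h6
    rw [mem_bot, ← e.apply_symm_apply y, h6, map_one]
  · intro T hT hPQ hd
    have h6 := h5 (T.comap e.symm.toMonoidHom) (by
      intro h
      apply hT
      rw [eq_top_iff]
      intro x _
      have h7 : e x ∈ T.comap e.symm.toMonoidHom := by rw [h]; exact mem_top _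
      have h8 : e.symm (e x) ∈ T := mem_comap.1 h7
      rwa [e.symm_apply_apply] at h8) (by
      rcases hPQ with h | h
      · left
        intro y hy
        apply h
        rw [mem_comap]
        change e (e.symm y) ∈ P
        rwa [e.apply_symm_apply]
      · right
        intro y hy
        apply h
        rw [mem_comap]
        change e (e.symm y) ∈ Q
        rwa [e.apply_symm_apply]) (by
      rwa [Subgroup.index_comap_of_surjective T (f := e.symm.toMonoidHom) e.symm.surjective])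
    have e1 : T.comap e.symm.toMonoidHom ≃* T :=
      { toFun := fun x => ⟨e.symm x, x.2⟩
        invFun := fun y => ⟨e y, by
          rw [mem_comap]
          change e.symm (e (y : X)) ∈ T
          rw [e.symm_apply_apply]
          exact y.2⟩
        left_inv := fun x => Subtype.ext (e.apply_symm_apply _)
        right_inv := fun y => Subtype.ext (e.symm_apply_apply _)
        map_mul' := fun x y => Subtype.ext (map_mul e.symm _ _) }
    rwa [card_comap_e e.symm, Cfsg.Agent.H697.ClassCount.card_conjClasses_congr e1, Nat.card_congr e.symm.toEquiv] at h6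

/-- `p`-elements in subgroups containing a Sylow subgroup -/
theorem exists_conj_mem {X : Type u} [Group X] [Finite X] {p a : ℕ} (hp : p.Prime) {T : Subgroup X}
    (hT : p ^ a ∣ Nat.card T) (ha : ¬ p ^ (a + 1) ∣ Nat.card X) {x : X} {k : ℕ} (hx : x ^ p ^ k = 1) :
    ∃ g : X, g * x * g⁻¹ ∈ T := by
  have := Fact.mk hp
  obtain ⟨K, hK⟩ := Sylow.exists_subgroup_card_pow_prime p hT
  have hK' : Nat.card (K.map T.subtype) = p ^ a := by rw [Subgroup.card_map_of_injective T.subtype_injective, hK]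
  obtain ⟨Q, hQ⟩ := (IsPGroup.of_card hK').exists_le_sylow
  have hQK : (Q : Subgroup X) = K.map T.subtype := by
    symm
    apply Subgroup.eq_of_le_of_card_ge hQ
    obtain ⟨b, hb⟩ := Q.2.exists_card_eq
    have hb' : b ≤ a := by
      by_contra hcon
      exact ha ((pow_dvd_pow p (show a + 1 ≤ b by omega)).trans (hb ▸ Subgroup.card_subgroup_dvd_card (Q : Subgroup X)))
    rw [hK']
    calc Nat.card (Q : Subgroup X) = p ^ b := hb
      _ ≤ p ^ a := Nat.pow_le_pow_right hp.pos hb'
  have hx' : IsPGroup p (zpowers x) := by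
    obtain ⟨j, -, hj⟩ := (Nat.dvd_prime_pow hp).1 (orderOf_dvd_of_pow_eq_one hx)
    exact IsPGroup.of_card (n := j) (by rw [Nat.card_zpowers, hj])
  obtain ⟨R, hR⟩ := hx'.exists_le_sylow
  obtain ⟨g, hg⟩ := MulAction.exists_smul_eq X R Q
  refine ⟨g, ?_⟩
  have h1 : g * x * g⁻¹ ∈ (Q : Subgroup X) := by
    rw [← hg, Sylow.coe_subgroup_smul]
    exact Subgroup.smul_mem_pointwise_smul x (MulAut.conj g) (R : Subgroup X) (hR (mem_zpowers x))
  rw [hQK] at h1
  obtain ⟨y, -, hy⟩ := h1
  rw [← hy]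
  exact y.2

/-- a `p`-element with small centralizer -/
def HP {X : Type u} [Group X] (T : Subgroup X) (p c : ℕ) : Prop := p.Prime ∧ ∃ g ∈ T, (∃ k : ℕ, orderOf g = p ^ k) ∧
  Nat.gcd (Nat.card (centralizer ({g} : Set X))) (Nat.card T) ≤ c

theorem card_cent_cj {X : Type u} [Group X] (g t : X) :
    Nat.card (centralizer ({g * t * g⁻¹} : Set X)) = Nat.card (centralizer ({t} : Set X)) := by
  refine Nat.card_congr ⟨fun x => ⟨g⁻¹ * x * g, ?_⟩, fun x => ⟨g * x * g⁻¹, ?_⟩, fun x => ?_, fun x => ?_⟩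
  · have h := mem_centralizer_singleton_iff.1 x.2
    rw [mem_centralizer_singleton_iff]
    calc g⁻¹ * (x : X) * g * t = g⁻¹ * ((x : X) * (g * t * g⁻¹)) * g := by group
      _ = g⁻¹ * (g * t * g⁻¹ * x) * g := by rw [h]
      _ = t * (g⁻¹ * (x : X) * g) := by group
  · have h := mem_centralizer_singleton_iff.1 x.2
    rw [mem_centralizer_singleton_iff]
    calc g * (x : X) * g⁻¹ * (g * t * g⁻¹) = g * ((x : X) * t) * g⁻¹ := by group
      _ = g * (t * x) * g⁻¹ := by rw [h]
      _ = g * t * g⁻¹ * (g * (x : X) * g⁻¹) := by group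
  · exact Subtype.ext (by change g * (g⁻¹ * (x : X) * g) * g⁻¹ = x; group)
  · exact Subtype.ext (by change g⁻¹ * (g * (x : X) * g⁻¹) * g = x; group)

theorem HP.of_full {X : Type u} [Group X] [Finite X] {p a c : ℕ} (hp : p.Prime) {T : Subgroup X}
    (hT : p ^ a ∣ Nat.card T) (ha : ¬ p ^ (a + 1) ∣ Nat.card X) {x : X} {k : ℕ} (hx : x ^ p ^ k = 1)
    (hc : Nat.card (centralizer ({x} : Set X)) ≤ c) : HP T p c := by
  obtain ⟨g, hg⟩ := exists_conj_mem hp hT ha hx
  refine ⟨hp, g * x * g⁻¹, hg, ?_, ?_⟩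
  · obtain ⟨j, -, hj⟩ := (Nat.dvd_prime_pow hp).1 (orderOf_dvd_of_pow_eq_one hx)
    exact ⟨j, by rw [← hj]; exact (MulAut.conj g).orderOf_eq x⟩
  · rw [card_cent_cj]
    exact (Nat.le_of_dvd Nat.card_pos (Nat.gcd_dvd_left _ _)).trans hc

theorem HP.of_order {X : Type u} [Group X] [Finite X] {p c : ℕ} (hp : p.Prime) {T : Subgroup X}
    (hT : p ∣ Nat.card T) (hc : ∀ y : X, orderOf y = p → Nat.card (centralizer ({y} : Set X)) ≤ c) : HP T p c := by
  have := Fact.mk hp
  obtain ⟨y, hy⟩ := exists_prime_orderOf_dvd_card' p hT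
  have hy' : orderOf (y : X) = p := by rw [Subgroup.orderOf_coe, hy]
  exact ⟨hp, y, y.2, ⟨1, by rw [hy', pow_one]⟩, (Nat.le_of_dvd Nat.card_pos (Nat.gcd_dvd_left _ _)).trans (hc y hy')⟩

theorem bound {X : Type u} [Group X] [Finite X] {T : Subgroup X} (L : Finset ℕ) (c : ℕ → ℕ) (N : ℕ)
    (h : ∀ p ∈ L, HP T p (c p)) (hb : 2 * (Nat.card T * (∑ p ∈ L, c p + Nat.card T / (∏ p ∈ L, p) ^ 2)) ≤ N) :
    2 * (Nat.card T * Nat.card (ConjClasses T)) ≤ N :=
  (Nat.mul_le_mul_left 2 (Nat.mul_le_mul_left _ (k_le_gcd T L c h))).trans hb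

end Cfsg.Agent.H757.S8
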