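import Cfsg.Agent.H757.S8.McLF

/-!
# S4908, FROB for `McL`: no subgroup of index 45 (helper757)
-/

set_option autoImplicit false

namespace Cfsg.Agent.H757.S8.McL

open Subgroup Cfsg.Agent.H904.McLCent Cfsg.Agent.McLType.X275 Cfsg.Agent.H359.CT Cfsg.Agent.H359.CT.McL

theorem sub_eq {G : Type*} [Group G] (T : Subgroup G) (P : Subgroup T) {n : T} (hn : n ∈ normalizer (P : Set T)) :
    (n : G) ∈ normalizer ((P.map T.subtype : Subgroup G) : Set G) := by
  rw [mem_normalizer_iff] at hn ⊢
  intro g
  constructor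
  · rintro ⟨x, hx, rfl⟩
    exact ⟨n * x * n⁻¹, (hn x).1 hx, rfl⟩
  · rintro ⟨y, hy, hy'⟩
    refine ⟨n⁻¹ * y * n, (hn _).2 (by rw [show n * (n⁻¹ * y * n) * n⁻¹ = y by group]; exact hy), ?_⟩
    rw [coe_subtype] at hy'
    rw [coe_subtype, coe_mul, coe_mul, hy', coe_inv]
    group

theorem norm_le {G : Type*} [Group G] (P : Subgroup G) :
    normalizer (P : Set G) ≤ normalizer ((centralizer (P : Set G) : Subgroup G) : Set G) := by
  have key : ∀ n ∈ normalizer (P : Set G), ∀ x ∈ centralizer (P : Set G), n * x * n⁻¹ ∈ centralizer (P : Set G) := by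
    intro n hn x hx
    rw [mem_centralizer_iff] at hx ⊢
    intro h hh
    have h1 : n⁻¹ * h * n ∈ (P : Set G) := by
      rw [SetLike.mem_coe]
      have := (mem_normalizer_iff.1 (inv_mem hn) h).1 hh
      rwa [inv_inv] at this
    have h2 := hx _ h1
    calc h * (n * x * n⁻¹) = n * (n⁻¹ * h * n * x) * n⁻¹ := by group
      _ = n * (x * (n⁻¹ * h * n)) * n⁻¹ := by rw [h2]
      _ = n * x * n⁻¹ * h := by group
  intro n hn
  rw [mem_normalizer_iff]
  intro x
  refine ⟨key n hn x, fun h => ?_⟩
  have := key n⁻¹ (inv_mem hn) _ h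
  rwa [show n⁻¹ * (n * x * n⁻¹) * n⁻¹⁻¹ = x by group] at this

theorem card_sub_dvd {G : Type*} [Group G] [Finite G] (T : Subgroup G) (P : Subgroup T) :
    Nat.card (normalizer (P : Set T)) ∣ Nat.card (normalizer ((P.map T.subtype : Subgroup G) : Set G)) := by
  rw [← Subgroup.card_map_of_injective (K := normalizer (P : Set T)) T.subtype_injective]
  apply Subgroup.card_dvd_of_le
  rintro _ ⟨n, hn, rfl⟩
  exact sub_eq T P hn

theorem card_cent_seven {y : G1} (hy : orderOf y = 7) : Nat.card (centralizer ({y} : Set G1)) = 14 := by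
  have h7 : ¬ 7 ^ 2 ∣ Nat.card G1 := by rw [card_G1]; norm_num
  set w := eK0.symm (gs 15) with hw
  have hwo : orderOf w = 14 := by rw [hw, MulEquiv.orderOf_eq]; exact order_14
  have hx : orderOf (w ^ 2) = 7 := by rw [orderOf_pow_of_dvd (by norm_num) (by rw [hwo]; norm_num), hwo]
  obtain ⟨u, hu⟩ := Cfsg.Agent.H1.RealTool.exists_conj_mem_zpowers (by norm_num : Nat.Prime 7) h7 hx hy
  have h1 : Nat.card (centralizer ({y} : Set G1)) = Nat.card (centralizer ({w ^ 2} : Set G1)) :=
    Cfsg.Agent.H686.Odd.McL.card_cent_of_mem (by norm_num) hx (by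
      rintro rfl
      rw [orderOf_one] at hy
      norm_num at hy) hu
  have h2 : 14 ∣ Nat.card (centralizer ({w ^ 2} : Set G1)) := by
    have h3 : w ∈ centralizer ({w ^ 2} : Set G1) := mem_centralizer_singleton_iff.2 (by rw [← pow_succ, ← pow_succ'])
    have := orderOf_dvd_natCard (⟨w, h3⟩ : centralizer ({w ^ 2} : Set G1))
    rwa [Subgroup.orderOf_mk, hwo] at this
  rw [← h1] at h2
  exact Nat.dvd_antisymm (Cfsg.Agent.H686.Odd.McL.seven_dvd hy) h2

/-- **no subgroup of index 45** -/
theorem no45 (T : Subgroup G1) : Nat.card T ≠ 19958400 := by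
  intro hT
  have f7 : Fact (Nat.Prime 7) := ⟨by norm_num⟩
  have f11 : Fact (Nat.Prime 11) := ⟨by norm_num⟩
  have m7 : (19958400 : ℕ).factorization 7 = 1 := by
    rw [show (19958400 : ℕ) = 7 ^ 1 * 2851200 by norm_num, Nat.factorization_mul (by norm_num) (by norm_num),
      Nat.Prime.factorization_pow (by norm_num)]
    simp [Nat.factorization_eq_zero_of_not_dvd]
  let P : Sylow 7 T := default
  have hP : Nat.card P = 7 := by rw [P.card_eq_multiplicity, hT, m7, pow_one]
  set P' : Subgroup G1 := (P : Subgroup T).map T.subtype with hP'd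
  have hP' : Nat.card P' = 7 := by rw [hP'd, Subgroup.card_map_of_injective T.subtype_injective]; exact hP
  obtain ⟨-, hN⟩ := seven isoMcL_G1 P' hP'
  have hC : Nat.card (centralizer (P' : Set G1)) = 14 := by
    obtain ⟨y, hy⟩ := exists_prime_orderOf_dvd_card' (G := P') 7 (by rw [hP'])
    have hyo : orderOf (y : G1) = 7 := by rw [Subgroup.orderOf_coe, hy]
    have h1 : zpowers (y : G1) = P' := by
      apply Subgroup.eq_of_le_of_card_ge (by rw [zpowers_le]; exact y.2)
      rw [Nat.card_zpowers, hyo, hP']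
    rw [← h1, Cfsg.Agent.H904.SylOne.centralizer_zpowers_eq]
    exact card_cent_seven hyo
  -- the normalizer in `T`
  have hd : Nat.card (normalizer ((P : Subgroup T) : Set T)) ∣ 42 := by
    rw [← hN]
    exact card_sub_dvd T _
  have h7N : 7 ∣ Nat.card (normalizer ((P : Subgroup T) : Set T)) := by
    have h := Subgroup.card_dvd_of_le (le_normalizer : (P : Subgroup T) ≤ normalizer ((P : Subgroup T) : Set T))
    rwa [hP] at h
  have hmod : (normalizer ((P : Subgroup T) : Set T)).index % 7 = 1 := by
    have h1 := card_sylow_modEq_one 7 T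
    rw [P.card_eq_index_normalizer] at h1
    exact h1
  have hmul := (normalizer ((P : Subgroup T) : Set T)).card_mul_index
  rw [hT] at hmul
  have h14 : Nat.card (normalizer ((P : Subgroup T) : Set T)) = 14 := by
    obtain ⟨k, hk⟩ := h7N
    rw [hk] at hd hmul ⊢
    have hk6 : k ∣ 6 := Nat.dvd_of_mul_dvd_mul_left (by norm_num : 0 < 7) (by simpa using hd)
    have : k ≤ 6 := Nat.le_of_dvd (by norm_num) hk6
    interval_cases k <;> omega
  -- the centralizer
  have hNC : normalizer ((P : Subgroup T) : Set T) ≤ centralizer ((P : Subgroup T) : Set T) := by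
    intro n hn
    have hn14 : n ^ 14 = 1 := by
      have h1 := pow_card_eq_one' (G := normalizer ((P : Subgroup T) : Set T)) (x := ⟨n, hn⟩)
      rw [h14] at h1
      exact congrArg Subtype.val h1
    have hn' := sub_eq T _ hn
    have hnorm : ((centralizer (P' : Set G1)).subgroupOf (normalizer (P' : Set G1))).Normal :=
      normal_subgroupOf_of_le_normalizer (norm_le P')
    have hi : ((centralizer (P' : Set G1)).subgroupOf (normalizer (P' : Set G1))).index = 3 := by
      have h1 := ((centralizer (P' : Set G1)).subgroupOf (normalizer (P' : Set G1))).card_mul_index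
      rw [Nat.card_congr (subgroupOfEquivOfLe (centralizer_le_normalizer _)).toEquiv, hC, hN] at h1
      omega
    have h1 := pow_index_mem ((centralizer (P' : Set G1)).subgroupOf (normalizer (P' : Set G1)))
      (⟨n, hn'⟩ : normalizer (P' : Set G1))
    rw [hi, mem_subgroupOf] at h1
    have h2 : ((n : G1)) ^ 3 ∈ centralizer (P' : Set G1) := h1
    have h3 : (n : G1) ∈ centralizer (P' : Set G1) := by
      have h4 : ((n : G1) ^ 3) ^ 5 = n := by
        have h5 : (n : G1) ^ 14 = 1 := congrArg Subtype.val hn14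
        rw [← pow_mul, show 3 * 5 = 14 + 1 by norm_num, pow_succ, h5, one_mul]
      rw [← h4]
      exact pow_mem h2 5
    rw [mem_centralizer_iff]
    intro y hy
    exact Subtype.ext (mem_centralizer_iff.1 h3 y ⟨y, hy, rfl⟩)
  have hcomp := MonoidHom.ker_transferSylow_isComplement' P hNC
  set K := (MonoidHom.transferSylow P hNC).ker with hK
  have hKc : K.index = 7 := by rw [← hP]; exact hcomp.symm.index_eq_card
  have h11K : 11 ∣ Nat.card K := by
    have h1 := K.card_mul_index
    rw [hKc, hT] at h1
    omega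
  let Q : Sylow 11 K := default
  have m11 : (2851200 : ℕ).factorization 11 = 1 := by
    rw [show (2851200 : ℕ) = 11 ^ 1 * 259200 by norm_num, Nat.factorization_mul (by norm_num) (by norm_num),
      Nat.Prime.factorization_pow (by norm_num)]
    simp [Nat.factorization_eq_zero_of_not_dvd]
  have hQ : Nat.card Q = 11 := by
    have h1 := K.card_mul_index
    rw [hKc, hT] at h1
    rw [Q.card_eq_multiplicity, show Nat.card K = 2851200 by omega, m11, pow_one]
  set Q1 : Subgroup T := (Q : Subgroup K).map K.subtype with hQ1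
  have hfr := Sylow.normalizer_sup_eq_top Q
  have hQ2 : Nat.card (Q1.map T.subtype) = 11 := by
    rw [Subgroup.card_map_of_injective T.subtype_injective, hQ1, Subgroup.card_map_of_injective K.subtype_injective]
    exact hQ
  obtain ⟨-, hN11⟩ := eleven isoMcL_G1 (Q1.map T.subtype) hQ2
  have h55 : Nat.card (normalizer (Q1 : Set T)) ∣ 55 := by
    rw [← hN11]
    exact card_sub_dvd T _
  have h7 : 7 ∣ Nat.card (normalizer (Q1 : Set T)) := by
    have h1 : K.relIndex (normalizer (Q1 : Set T)) = K.index := by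
      rw [← relIndex_top_right, ← hfr, relIndex_sup_right]
    rw [← hKc, ← h1]
    exact relIndex_dvd_card _ _
  have := h7.trans h55
  norm_num at this

end Cfsg.Agent.H757.S8.McL
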