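import Cfsg.Agent.Lib.MinNormalNonabelian
import Cfsg.Agent.Lib.SubnormalJoin
import Cfsg.Agent.H251.Der.AutFacts
import Cfsg.Agent.CpAutCo3.MTw

/-!
# S4908, FROB for `McL`: the `{2,3,5}`-subgroups (helper757)

`z` of order 5, `|C(z)| = 25`, the centralizers of the elements of order 5 have order 25 or 750: a `{2,3,5}`-subgroup of
order divisible by 25 containing `z` has order at most 93000.
-/

set_option autoImplicit false

namespace Cfsg.Agent.H757.S8

open Subgroup

section Act

variable {X : Type*} [Group X]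

/-- the action by conjugation on the nontrivial elements -/
@[reducible] def act (A M : Subgroup X) (hA : A ≤ normalizer (M : Set X)) : MulAction A {m : X // m ∈ M ∧ m ≠ 1} where
  smul a m := ⟨(a : X) * m.1 * (a : X)⁻¹, (mem_normalizer_iff.1 (hA a.2) m.1).1 m.2.1, fun h0 => m.2.2 (by
    rw [mul_inv_eq_one] at h0
    simpa using h0)⟩
  one_smul m := Subtype.ext (by
    change ((1 : A) : X) * m.1 * ((1 : A) : X)⁻¹ = m.1
    rw [coe_one]; group)
  mul_smul a b m := Subtype.ext (by
    change ((a * b : A) : X) * m.1 * ((a * b : A) : X)⁻¹ = (a : X) * ((b : X) * m.1 * (b : X)⁻¹) * (a : X)⁻¹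
    rw [coe_mul]; group)

theorem card_ne_one [Finite X] (M : Subgroup X) : Nat.card {m : X // m ∈ M ∧ m ≠ 1} = Nat.card M - 1 := by
  classical
  have := Fintype.ofFinite M
  have e : {m : X // m ∈ M ∧ m ≠ 1} ≃ {m : M // ¬ m = 1} :=
    ⟨fun m => ⟨⟨m.1, m.2.1⟩, fun h => m.2.2 (congrArg Subtype.val h)⟩, fun m => ⟨m.1.1, m.1.2, fun h => m.2 (Subtype.ext h)⟩,
      fun _ => rfl, fun _ => rfl⟩
  rw [Nat.card_congr e, Nat.card_eq_fintype_card, Fintype.card_subtype_compl, Fintype.card_subtype_eq,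
    Nat.card_eq_fintype_card]

theorem fpf_dvd [Finite X] (A M : Subgroup X) (hA : A ≤ normalizer (M : Set X))
    (h : ∀ a ∈ A, a ≠ 1 → ∀ m ∈ M, a * m = m * a → m = 1) : Nat.card A ∣ Nat.card M - 1 := by
  let _ := act A M hA
  have hst : ∀ m : {m : X // m ∈ M ∧ m ≠ 1}, MulAction.stabilizer A m = ⊥ := by
    intro m
    rw [eq_bot_iff]
    intro a ha
    rw [mem_bot]
    by_contra hne
    have h1 : (a : X) * m.1 * (a : X)⁻¹ = m.1 := congrArg Subtype.val (MulAction.mem_stabilizer_iff.1 ha)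
    exact m.2.2 (h a a.2 (fun h0 => hne (Subtype.ext h0)) m.1 m.2.1 (mul_inv_eq_iff_eq_mul.1 h1))
  have e := Nat.card_congr (MulAction.selfEquivOrbitsQuotientProd hst)
  rw [card_ne_one, Nat.card_prod] at e
  exact ⟨_, by rw [e]; ring⟩

theorem card_le_cent [Finite X] (A M : Subgroup X) (hA : A ≤ normalizer (M : Set X)) {y : X} (hy : y ∈ M) (h1 : y ≠ 1) :
    Nat.card A ≤ (Nat.card M - 1) * Nat.card (centralizer ({y} : Set X)) := by
  classical
  let _ := act A M hA
  let m : {m : X // m ∈ M ∧ m ≠ 1} := ⟨y, hy, h1⟩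
  have e := MulAction.index_stabilizer A m
  have h2 : Nat.card A = (MulAction.stabilizer A m).index * Nat.card (MulAction.stabilizer A m) :=
    (Subgroup.index_mul_card _).symm
  rw [h2, e]
  apply Nat.mul_le_mul
  · rw [← card_ne_one, ← Set.ncard_univ]
    exact Set.ncard_le_ncard (Set.subset_univ _) (Set.toFinite _)
  · refine Nat.card_le_card_of_injective (fun a => (⟨(a : A), ?_⟩ : centralizer ({y} : Set X))) ?_
    · have h3 : ((a : A) : X) * y * ((a : A) : X)⁻¹ = y := congrArg Subtype.val (MulAction.mem_stabilizer_iff.1 a.2)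
      rw [mem_centralizer_singleton_iff]
      exact mul_inv_eq_iff_eq_mul.1 h3
    · intro a b hab
      have := congrArg Subtype.val hab
      exact Subtype.ext (Subtype.ext this)

end Act

section Str

variable {X : Type} [Group X] [Finite X]

/-- an element of order 5 acting fixed point freely -/
theorem five_dvd_sub {z : X} (hz : orderOf z = 5) {D : Subgroup X} (hD : z ∈ normalizer (D : Set X))
    (h : ∀ m ∈ D, z * m = m * z → m = 1) : 5 ∣ Nat.card D - 1 := by
  have h1 := fpf_dvd (zpowers z) D (by rwa [zpowers_le]) (fun a ha ha1 m hm hc => by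
    apply h m hm
    have : Fact (Nat.Prime 5) := ⟨Nat.prime_five⟩
    have h2 : z ∈ zpowers a := by
      have h3 : zpowers a ≤ zpowers z := by rwa [zpowers_le]
      have h4 : Nat.card (zpowers a) ∣ 5 := by
        rw [← hz, ← Nat.card_zpowers]
        exact Subgroup.card_dvd_of_le h3
      rcases (Nat.dvd_prime Nat.prime_five).1 h4 with h5 | h5
      · exact absurd (zpowers_eq_bot.1 (Subgroup.card_eq_one.1 h5)) ha1
      · have h6 : zpowers a = zpowers z := by
          apply Subgroup.eq_of_le_of_card_ge h3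
          rw [h5, Nat.card_zpowers, hz]
        rw [h6]
        exact mem_zpowers z
    obtain ⟨k, rfl⟩ := h2
    exact ((show Commute a m from hc).zpow_left k).eq)
  rwa [Nat.card_zpowers, hz] at h1

/-- the powers of 2 and 3 -/
theorem pow_cases {r j : ℕ} (h : (r = 2 ∧ j ≤ 7) ∨ (r = 3 ∧ j ≤ 6)) (hj : j ≠ 0) (h5 : 5 ∣ r ^ j - 1) :
    r ^ j = 16 ∨ r ^ j = 81 := by
  rcases h with ⟨rfl, h⟩ | ⟨rfl, h⟩ <;> interval_cases j <;> simp_all

theorem no_rgroup (hX : Nat.card X ∣ 2 ^ 7 * 3 ^ 6 * 5 ^ 3 * 7 * 11)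
    (h5 : ∀ y : X, orderOf y = 5 → Nat.card (centralizer ({y} : Set X)) = 25 ∨ Nat.card (centralizer ({y} : Set X)) = 750)
    {z : X} (hz : orderOf z = 5) (hc : Nat.card (centralizer ({z} : Set X)) = 25) {M : Subgroup X} (hM : M ≠ ⊥)
    (hn : centralizer ({z} : Set X) ≤ normalizer (M : Set X)) {r : ℕ} (hr : r = 2 ∨ r = 3) (hp : IsPGroup r M) : False := by
  have hrp : Fact r.Prime := ⟨by rcases hr with rfl | rfl <;> norm_num⟩
  have hzz : z ∈ centralizer ({z} : Set X) := mem_centralizer_singleton_iff.2 rfl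
  -- no common elements
  have hfix : ∀ m ∈ M, z * m = m * z → m = 1 := by
    intro m hm hzm
    have h1 : m ∈ centralizer ({z} : Set X) := mem_centralizer_singleton_iff.2 hzm.symm
    have h2 : orderOf m ∣ 25 := by
      have := orderOf_dvd_natCard (⟨m, h1⟩ : centralizer ({z} : Set X))
      rwa [Subgroup.orderOf_mk, hc] at this
    obtain ⟨k, hk⟩ := hp ⟨m, hm⟩
    have h3 : orderOf m ∣ r ^ k := orderOf_dvd_of_pow_eq_one (congrArg Subtype.val hk)
    have h4 : Nat.Coprime 25 (r ^ k) := Nat.Coprime.pow_right _ (by rcases hr with rfl | rfl <;> norm_num)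
    exact orderOf_eq_one_iff.1 (Nat.eq_one_of_dvd_coprimes h4 h2 h3)
  have hpow : ∀ D : Subgroup X, D ≤ M → D ≠ ⊥ → z ∈ normalizer (D : Set X) → Nat.card D = 16 ∨ Nat.card D = 81 := by
    intro D hDM hD hzD
    obtain ⟨j, hj⟩ := (hp.to_le hDM).exists_card_eq
    have h1 := five_dvd_sub hz hzD (fun m hm => hfix m (hDM hm))
    rw [hj] at h1 ⊢
    refine pow_cases ?_ ?_ h1
    · have h2 : r ^ j ∣ 2 ^ 7 * 3 ^ 6 * 5 ^ 3 * 7 * 11 := by
        rw [← hj]; exact (Subgroup.card_subgroup_dvd_card D).trans hX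
      rcases hr with rfl | rfl
      · left
        refine ⟨rfl, ?_⟩
        by_contra hcon
        have := (pow_dvd_pow 2 (show 8 ≤ j by omega)).trans h2
        norm_num at this
      · right
        refine ⟨rfl, ?_⟩
        by_contra hcon
        have := (pow_dvd_pow 3 (show 7 ≤ j by omega)).trans h2
        norm_num at this
    · rintro rfl
      exact hD (Subgroup.card_eq_one.1 (by rw [hj, pow_zero]))
  have h16 := hpow M le_rfl hM (hn hzz)
  have key : ∃ a ∈ centralizer ({z} : Set X), a ≠ 1 ∧ ∃ m ∈ M, a * m = m * a ∧ m ≠ 1 := by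
    by_contra hcon
    push Not at hcon
    have h1 := fpf_dvd (centralizer ({z} : Set X)) M hn (fun a ha ha1 m hm hc => hcon a ha ha1 m hm hc)
    rw [hc] at h1
    rcases h16 with h | h <;> rw [h] at h1 <;> norm_num at h1
  obtain ⟨a, ha, ha1, m, hm, hcomm, hm1⟩ := key
  have hao : orderOf a ∣ 5 ^ 2 := by
    have := orderOf_dvd_natCard (⟨a, ha⟩ : centralizer ({z} : Set X))
    rwa [Subgroup.orderOf_mk, hc, show 25 = 5 ^ 2 by norm_num] at this
  obtain ⟨k, hk2, hk⟩ := (Nat.dvd_prime_pow Nat.prime_five).1 hao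
  have hk0 : k ≠ 0 := by
    rintro rfl
    exact ha1 (orderOf_eq_one_iff.1 (by rw [hk, pow_zero]))
  have hy : orderOf (a ^ 5 ^ (k - 1)) = 5 := by
    rw [orderOf_pow_of_dvd (by positivity) (by rw [hk]; exact pow_dvd_pow 5 (by omega)), hk,
      Nat.pow_div (by omega) (by norm_num), show k - (k - 1) = 1 by omega, pow_one]
  set y := a ^ 5 ^ (k - 1) with hyd
  have hyc : y ∈ centralizer ({z} : Set X) := pow_mem ha _
  have hym : y * m = m * y := ((show Commute a m from hcomm).pow_left _).eq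
  have hD := hpow (M ⊓ centralizer ({y} : Set X)) inf_le_left (by
    intro h0
    apply hm1
    rw [← mem_bot, ← h0]
    exact ⟨hm, mem_centralizer_singleton_iff.2 hym.symm⟩) (by
    have h1 : z ∈ normalizer ((centralizer ({y} : Set X) : Subgroup X) : Set X) := by
      apply le_normalizer
      exact mem_centralizer_singleton_iff.2 (mem_centralizer_singleton_iff.1 hyc).symm
    exact inf_normalizer_le_normalizer_inf ⟨hn hzz, h1⟩)
  have hd : Nat.card ↥(M ⊓ centralizer ({y} : Set X)) ∣ Nat.card (centralizer ({y} : Set X)) :=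
    Subgroup.card_dvd_of_le inf_le_right
  rcases h5 y hy with h | h <;> rcases hD with h' | h' <;> rw [h, h'] at hd <;> norm_num at hd

/-! ### nonabelian minimal normal subgroups -/

open Cfsg Cfsg.Agent.OrdDiv

/-- the groups are known -/
def Kn : Prop := ∀ (S : Type) [Group S] [Finite S] [IsSimpleGroup S], Cfsg.IsKnownSimple' S

theorem card_cases (OT : OrderTable.{0}) (hS : Kn) {S : Type} [Group S] [Finite S] [IsSimpleGroup S]
    (hna : ¬ ∀ a b : S, a * b = b * a) (hd : Nat.card S ∣ 11664000) :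
    Nat.card S = 60 ∨ Nat.card S = 360 ∨ Nat.card S = 25920 := by
  obtain ⟨g, hg, -, ho⟩ := exists_good OT (hS S) hna (l := [(2, 7), (3, 6), (5, 3)]) (N := 11664000) (by decide +kernel) hd
  have h : ((cands [(2, 7), (3, 6), (5, 3)] 11664000).all fun g =>
      Nat.beq (ordN g) 60 || Nat.beq (ordN g) 360 || Nat.beq (ordN g) 25920) = true := by decide +kernel
  rw [List.all_eq_true] at h
  have h1 := h g hg
  rw [← ho, Bool.or_eq_true, Bool.or_eq_true] at h1
  rcases h1 with (h1 | h1) | h1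
  · exact Or.inl (Nat.eq_of_beq_eq_true h1)
  · exact Or.inr (Or.inl (Nat.eq_of_beq_eq_true h1))
  · exact Or.inr (Or.inr (Nat.eq_of_beq_eq_true h1))

theorem aut_a5 : ¬ 25 ∣ Nat.card (MulAut (alternatingGroup (Fin 5))) := by
  classical
  have h1 : Nat.card (MulAut (alternatingGroup (Fin 5))) ≤ 120 := by
    choose σ hσ using Cfsg.Agent.OddCyclic.EmpFFAlt.exists_conj
    have hinj : Function.Injective σ := by
      intro e f hef
      ext x
      rw [hσ e x, hσ f x, hef]
    have := Nat.card_le_card_of_injective σ hinj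
    rwa [Nat.card_eq_fintype_card (α := Equiv.Perm (Fin 5)), Fintype.card_perm, Fintype.card_fin] at this
  have h60 : Nat.card ↥(alternatingGroup (Fin 5)) = 60 := by
    rw [nat_card_alternatingGroup, Nat.card_eq_fintype_card, Fintype.card_fin]; rfl
  have h2 : 60 ∣ Nat.card (MulAut (alternatingGroup (Fin 5))) := by
    have hk : (MulAut.conj : ↥(alternatingGroup (Fin 5)) →* MulAut ↥(alternatingGroup (Fin 5))).ker = ⊥ := by
      rw [eq_bot_iff, ← alternatingGroup.center_eq_bot (α := Fin 5) (by rw [Nat.card_eq_fintype_card, Fintype.card_fin]; norm_num)]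
      intro x hx
      rw [mem_center_iff]
      intro g
      have h3 := congrArg (fun e : MulAut ↥(alternatingGroup (Fin 5)) => e g) (MonoidHom.mem_ker.1 hx)
      have h4 : x * g * x⁻¹ = g := h3
      calc g * x = x * g * x⁻¹ * x := by rw [h4]
        _ = x * g := by group
    have h5 : Function.Injective (MulAut.conj : ↥(alternatingGroup (Fin 5)) →* MulAut ↥(alternatingGroup (Fin 5))) :=
      (MonoidHom.ker_eq_bot_iff _).1 hk
    rw [← h60]
    exact Subgroup.card_dvd_of_injective _ h5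
  have h3 : 0 < Nat.card (MulAut (alternatingGroup (Fin 5))) := Nat.card_pos
  intro h9
  obtain ⟨k, hk⟩ := h2
  obtain ⟨l, hl⟩ := h9
  omega

theorem aut_60 (OT : OrderTable.{0}) (hS : Kn) {S : Type} [Group S] [Finite S] [IsSimpleGroup S]
    (hna : ¬ ∀ x y : S, x * y = y * x) (h : Nat.card S = 60) : ¬ 25 ∣ Nat.card (MulAut S) := by
  obtain ⟨g, hg, hr⟩ := exists_real_filter OT (hS S) hna (l := [(2, 2), (3, 1), (5, 1)])
    (N := 60) (by decide +kernel) (by rw [h]) (fun o => Nat.beq o 60) (by rw [h]; rfl)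
  rw [show ((cands [(2, 2), (3, 1), (5, 1)] 60).filter fun g => Nat.beq (ordN g) 60) =
    [.alt 5, .psl 2 4, .psl 2 5] by decide +kernel] at hg
  simp only [List.mem_cons, List.not_mem_nil, or_false] at hg
  rcases hg with rfl | rfl | rfl
  · obtain ⟨e⟩ := hr
    rw [H251.Der.card_aut_congr e]
    exact aut_a5
  · obtain ⟨F, _, _, hF, ⟨e⟩⟩ := hr
    obtain ⟨f⟩ := Cfsg.Agent.S0252.result (F := F) hF
    rw [H251.Der.card_aut_congr (e.trans f)]
    exact aut_a5
  · obtain ⟨F, _, _, hF, ⟨e⟩⟩ := hr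
    obtain ⟨f⟩ := Cfsg.Agent.S0253.result (F := F) hF
    rw [H251.Der.card_aut_congr (e.trans f)]
    exact aut_a5

theorem aut_25 (OT : OrderTable.{0}) (hS : Kn) {S : Type} [Group S] [Finite S] [IsSimpleGroup S]
    (hna : ¬ ∀ x y : S, x * y = y * x) (hd : Nat.card S ∣ 11664000) : ¬ 25 ∣ Nat.card (MulAut S) := by
  rcases card_cases OT hS hna hd with h | h | h
  · exact aut_60 OT hS hna h
  · rw [H251.Der.aut_360 OT hS hna h]; norm_num
  · rw [H251.Der.aut_25920 OT hS hna h]; norm_num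

/-- a simple group and a commuting element of order 5 -/
theorem no_simple (OT : OrderTable.{0}) (hS : Kn)
    (h5 : ∀ y : X, orderOf y = 5 → Nat.card (centralizer ({y} : Set X)) = 25 ∨ Nat.card (centralizer ({y} : Set X)) = 750)
    {T : Subgroup X} (hT : Nat.card T ∣ 11664000) {S : Subgroup T} (hs : IsSimpleGroup S)
    (hna : ¬ ∀ a b : S, a * b = b * a) {y : T} (hy : orderOf y = 5) (hc : ∀ s ∈ S, s * y = y * s) : False := by
  have hd : Nat.card S ∣ 11664000 := (Subgroup.card_subgroup_dvd_card S).trans hT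
  have h1 : 4 ∣ Nat.card S := by
    rcases card_cases OT hS hna hd with h | h | h <;> rw [h] <;> norm_num
  have h2 : Nat.card S ∣ Nat.card (centralizer ({(y : X)} : Set X)) := by
    rw [Nat.card_congr (S.equivMapOfInjective T.subtype T.subtype_injective).toEquiv]
    apply Subgroup.card_dvd_of_le
    rintro _ ⟨s, hsS, rfl⟩
    rw [mem_centralizer_singleton_iff]
    exact congrArg Subtype.val (hc s hsS)
  have h3 := h1.trans h2
  rcases h5 y (by rw [Subgroup.orderOf_coe, hy]) with h | h <;> rw [h] at h3 <;> norm_num at h3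

open Cfsg.Agent.Lib.MinNormal Cfsg.Agent.Lib.MinNormalNonabelian in
theorem no_nonab (OT : OrderTable.{0}) (hS : Kn)
    (h5 : ∀ y : X, orderOf y = 5 → Nat.card (centralizer ({y} : Set X)) = 25 ∨ Nat.card (centralizer ({y} : Set X)) = 750)
    {T : Subgroup X} (hT : Nat.card T ∣ 11664000) (h25 : 25 ∣ Nat.card T) (M : Subgroup T) [M.Normal]
    (hmin : ∀ K : Subgroup T, K.Normal → K ≤ M → K = ⊥ ∨ K = M) (hna : ¬ ∀ x ∈ M, ∀ y ∈ M, Commute x y) : False := by
  have : Fact (Nat.Prime 5) := ⟨Nat.prime_five⟩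
  obtain ⟨⟨S, hSm⟩, hind, hsup, hsimple, hcent, -⟩ := nonabelian_structure M hmin hna
  have hnorm : ∀ S ∈ minSet M, M ≤ normalizer (S : Set T) := fun S hS => hS.2.2.1
  have hle : ∀ S ∈ minSet M, S ≤ M := fun S hS => hS.1
  have hnaS : ∀ S ∈ minSet M, ¬ ∀ a b : S, a * b = b * a := by
    intro S hSm hab
    apply hSm.2.1
    rw [eq_bot_iff]
    intro s hs
    rw [mem_bot]
    exact hcent S hSm s hs fun t ht => congrArg Subtype.val (hab ⟨s, hs⟩ ⟨t, ht⟩)
  have hcard5 : ∀ S ∈ minSet M, 5 ∣ Nat.card S := by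
    intro S hSm
    have := hsimple S hSm
    rcases card_cases OT hS (hnaS S hSm) ((Subgroup.card_subgroup_dvd_card S).trans hT) with h | h | h <;> rw [h] <;>
      norm_num
  have hS1 := hsimple S hSm
  by_cases huniq : ∀ S' ∈ minSet M, S' = S
  · have hMS : M = S := by
      rw [← hsup]
      apply le_antisymm
      · exact sSup_le fun S' hS' => (huniq S' hS').le
      · exact le_sSup hSm
    subst hMS
    have hM1 : IsSimpleGroup M := hS1
    have hd : Nat.card M ∣ 11664000 := (Subgroup.card_subgroup_dvd_card M).trans hT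
    let φ : T →* MulAut M := MulAut.conjNormal
    have h1 : Nat.card T = Nat.card φ.ker * Nat.card φ.range := by
      rw [← Subgroup.index_ker]
      exact (Subgroup.card_mul_index _).symm
    have h2 : Nat.card φ.range ∣ Nat.card (MulAut M) := Subgroup.card_subgroup_dvd_card _
    have h3 : 5 ∣ Nat.card φ.ker := by
      by_contra hcon
      apply aut_25 OT hS (hnaS M hSm) hd
      refine dvd_trans ?_ h2
      have h4 : Nat.Coprime 25 (Nat.card φ.ker) := by
        have : Nat.Coprime (5 ^ 2) (Nat.card φ.ker) :=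
          Nat.Coprime.pow_left 2 ((Nat.Prime.coprime_iff_not_dvd Nat.prime_five).2 hcon)
        simpa using this
      rw [h1] at h25
      exact h4.dvd_of_dvd_mul_left h25
    obtain ⟨y, hy⟩ := exists_prime_orderOf_dvd_card' 5 h3
    refine no_simple OT hS h5 hT hM1 (hnaS M hSm) (y := (y : T)) (by rw [Subgroup.orderOf_coe, hy]) fun s hs => ?_
    have h4 : φ (y : T) = 1 := MonoidHom.mem_ker.1 y.2
    have h5 := congrArg (fun e : MulAut M => ((e ⟨s, hs⟩ : M) : T)) h4
    simp only [φ, MulAut.conjNormal_apply, MulAut.one_apply] at h5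
    exact (mul_inv_eq_iff_eq_mul.1 h5).symm
  · push Not at huniq
    obtain ⟨S', hS'm, hne⟩ := huniq
    obtain ⟨y, hy⟩ := exists_prime_orderOf_dvd_card' 5 (hcard5 S' hS'm)
    exact no_simple OT hS h5 hT hS1 (hnaS S hSm) (y := (y : T)) (by rw [Subgroup.orderOf_coe, hy]) fun s hs =>
      commute_of_mem hind hnorm hle hSm hS'm hne.symm hs y.2

open Cfsg.Agent.Lib.MinNormal Cfsg.Agent.Lib.MinNormalNonabelian in
/-- **the `{2,3,5}`-subgroups of order divisible by 25** -/
theorem card_le_of_25 (OT : OrderTable.{0}) (hS : Kn) (hX : Nat.card X ∣ 2 ^ 7 * 3 ^ 6 * 5 ^ 3 * 7 * 11)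
    (h5 : ∀ y : X, orderOf y = 5 → Nat.card (centralizer ({y} : Set X)) = 25 ∨ Nat.card (centralizer ({y} : Set X)) = 750)
    {z : X} (hz : orderOf z = 5) (hc : Nat.card (centralizer ({z} : Set X)) = 25)
    {T : Subgroup X} (hzT : z ∈ T) (hT : Nat.card T ∣ 11664000) (h25 : 25 ∣ Nat.card T) : Nat.card T ≤ 93000 := by
  have : Fact (Nat.Prime 5) := ⟨Nat.prime_five⟩
  -- the centralizer of `z`
  have hCT : centralizer ({z} : Set X) ≤ T := by
    have h1 : 5 ^ 2 ∣ Nat.card (centralizer ({(⟨z, hzT⟩ : T)} : Set T)) :=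
      Cfsg.Agent.CpAutCo3.MTw.sq_dvd (by norm_num; exact h25)
        (IsPGroup.of_card (n := 1) (by rw [Nat.card_zpowers, Subgroup.orderOf_mk, hz, pow_one]))
    have h2 : (centralizer ({(⟨z, hzT⟩ : T)} : Set T)).map T.subtype ≤ centralizer ({z} : Set X) := by
      rintro _ ⟨y, hy, rfl⟩
      rw [mem_centralizer_singleton_iff]
      exact congrArg Subtype.val (mem_centralizer_singleton_iff.1 hy)
    have h3 : (centralizer ({(⟨z, hzT⟩ : T)} : Set T)).map T.subtype = centralizer ({z} : Set X) := by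
      apply Subgroup.eq_of_le_of_card_ge h2
      rw [hc, Subgroup.card_map_of_injective T.subtype_injective]
      exact Nat.le_of_dvd Nat.card_pos (by norm_num at h1; exact h1)
    rw [← h3]
    rintro _ ⟨y, -, rfl⟩
    exact y.2
  have hnt : Nontrivial T := by
    rw [← Finite.one_lt_card_iff_nontrivial]
    exact lt_of_lt_of_le (by norm_num) (Nat.le_of_dvd Nat.card_pos h25)
  obtain ⟨M, hMn, hM, hmin⟩ := Cfsg.Agent.Lib.SubnormalJoin.exists_minimal_normal T
  by_cases hab : ∀ x ∈ M, ∀ y ∈ M, Commute x y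
  swap
  · exact (no_nonab OT hS h5 hT h25 M hmin hab).elim
  obtain ⟨p, hp, hpM, hexp⟩ := abelian_structure M hM hmin hab
  have := Fact.mk hp
  set M' : Subgroup X := M.map T.subtype with hM'
  have hM1 : M' ≠ ⊥ := fun h => hM ((Subgroup.map_eq_bot_iff_of_injective M T.subtype_injective).1 h)
  have hTN : T ≤ normalizer (M' : Set X) := by
    intro t ht
    rw [mem_normalizer_iff]
    have key : ∀ t : T, ∀ m ∈ M', (t : X) * m * (t : X)⁻¹ ∈ M' := by
      rintro t _ ⟨m, hm, rfl⟩
      exact ⟨t * m * t⁻¹, hMn.conj_mem m hm t, rfl⟩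
    intro m
    constructor
    · exact key ⟨t, ht⟩ m
    · intro hm
      have := key (⟨t, ht⟩ : T)⁻¹ _ hm
      have e : (((⟨t, ht⟩ : T)⁻¹ : T) : X) * (t * m * t⁻¹) * ((((⟨t, ht⟩ : T)⁻¹ : T) : X))⁻¹ = m := by
        rw [coe_inv]
        group
      rwa [e] at this
  have hpM' : IsPGroup p M' := hpM.map _
  have hcM : Nat.card M' = Nat.card M := Subgroup.card_map_of_injective T.subtype_injective
  have hpd : p ∣ 11664000 := by
    have h1 : p ∣ Nat.card M := by
      obtain ⟨k, hk⟩ := hpM.exists_card_eq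
      rw [hk]
      refine dvd_pow_self p fun h0 => ?_
      rw [h0, pow_zero] at hk
      exact hM (Subgroup.card_eq_one.1 hk)
    exact h1.trans ((Subgroup.card_subgroup_dvd_card M).trans hT)
  have hp5 : p = 2 ∨ p = 3 ∨ p = 5 := by
    rw [show 11664000 = 2 ^ 7 * 3 ^ 6 * 5 ^ 3 by norm_num] at hpd
    rcases (Nat.Prime.dvd_mul hp).1 hpd with h | h
    · rcases (Nat.Prime.dvd_mul hp).1 h with h | h
      · exact Or.inl ((Nat.prime_dvd_prime_iff_eq hp Nat.prime_two).1 (hp.dvd_of_dvd_pow h))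
      · exact Or.inr (Or.inl ((Nat.prime_dvd_prime_iff_eq hp Nat.prime_three).1 (hp.dvd_of_dvd_pow h)))
    · exact Or.inr (Or.inr ((Nat.prime_dvd_prime_iff_eq hp Nat.prime_five).1 (hp.dvd_of_dvd_pow h)))
  have hno : ∀ r : ℕ, r = 2 ∨ r = 3 → IsPGroup r M' → False := fun r hr hpr =>
    no_rgroup hX h5 hz hc hM1 (hCT.trans hTN) hr hpr
  rcases hp5 with rfl | rfl | rfl
  · exact (hno 2 (Or.inl rfl) hpM').elim
  · exact (hno 3 (Or.inr rfl) hpM').elim
  · obtain ⟨k, hk⟩ := hpM'.exists_card_eq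
    have hk3 : k ≤ 3 := by
      by_contra hcon
      have h1 := (pow_dvd_pow 5 (show 4 ≤ k by omega)).trans (hk ▸ hcM ▸ (Subgroup.card_subgroup_dvd_card M).trans hT)
      norm_num at h1
    have hk125 : Nat.card M' ≤ 125 := by
      rw [hk]
      exact (Nat.pow_le_pow_right (by norm_num) hk3).trans (by norm_num)
    have h5M : 5 ∣ Nat.card M' := by
      rw [hk]
      refine dvd_pow_self 5 fun h0 => ?_
      rw [h0, pow_zero] at hk
      exact hM1 (Subgroup.card_eq_one.1 hk)
    obtain ⟨y, hy⟩ := exists_prime_orderOf_dvd_card' 5 h5M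
    have hy' : orderOf (y : X) = 5 := by rw [Subgroup.orderOf_coe, hy]
    have hy1 : (y : X) ≠ 1 := by
      intro h
      rw [h, orderOf_one] at hy'
      norm_num at hy'
    have h6 := card_le_cent T M' hTN y.2 hy1
    have h7 : Nat.card (centralizer ({(y : X)} : Set X)) ≤ 750 := by
      rcases h5 y hy' with h | h <;> rw [h]; norm_num
    calc Nat.card T ≤ _ := h6
      _ ≤ 124 * 750 := Nat.mul_le_mul (by omega) h7
      _ = 93000 := by norm_num

end Str

end Cfsg.Agent.H757.S8
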