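import Cfsg.Agent.H757.S8.Tr
import Cfsg.Agent.H757.S8.McLNo
import Cfsg.Agent.H757.S8.McLStr
import Cfsg.Agent.H966.Gen.McL
import Cfsg.Agent.H852.FrobOrd

/-!
# S4908: FROB for `McL` (helper757)

The Frobenius group `11:5`. Subgroups of order divisible by 11: the order engine; the elements of order 5 have
centralizers of order 25: subgroups of order divisible by 35: the order engine; the `{2,3,5}`-subgroups: `McLStr`; the class
numbers: `KLe` with elements of order 8, 9, 5, 7, 11.
-/

set_option autoImplicit false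
set_option maxRecDepth 100000

namespace Cfsg.Agent.H757.S8.McL

open Subgroup Cfsg Cfsg.Agent.H904.McLCent Cfsg.Agent.McLType.X275 Cfsg.Agent.H704.S8 Cfsg.Agent.H940.Eng
open Cfsg.Agent.H966.Gen.McL (os11 os35 ho11 ho35)

universe v

theorem hp2 {T : Subgroup G1} (hT : 2 ^ 7 ∣ Nat.card T) : HP T 2 8 := by
  obtain ⟨x, hx, hc⟩ := eight
  exact HP.of_full Nat.prime_two hT (by rw [card_G1]; norm_num) hx hc

theorem hp3 {T : Subgroup G1} (hT : 3 ^ 6 ∣ Nat.card T) : HP T 3 27 := by
  obtain ⟨x, hx, hc⟩ := nine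
  exact HP.of_full Nat.prime_three hT (by rw [card_G1]; norm_num) hx hc

theorem hp7 {T : Subgroup G1} (hT : 7 ∣ Nat.card T) : HP T 7 14 :=
  HP.of_order (by norm_num) hT fun _ hy => (card_cent_seven hy).le

theorem hp11 {T : Subgroup G1} (hT : 11 ∣ Nat.card T) : HP T 11 11 :=
  HP.of_order (by norm_num) hT fun _ hy => (Cfsg.Agent.H686.Odd.McL.eleven_card hy).le

theorem hp5 {T : Subgroup G1} {z : G1} (hz : orderOf z = 5) (hc : Nat.card (centralizer ({z} : Set G1)) = 25)
    (hzT : z ∈ T) : HP T 5 25 :=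
  ⟨Nat.prime_five, z, hzT, ⟨1, by rw [hz, pow_one]⟩, by
    rw [hc]; exact Nat.le_of_dvd (by norm_num) (Nat.gcd_dvd_left _ _)⟩

theorem hp5' {T : Subgroup G1} {z : G1} (hz : orderOf z = 5) (hc : Nat.card (centralizer ({z} : Set G1)) = 25)
    (hzT : z ∈ T) (h25 : ¬ 25 ∣ Nat.card T) : HP T 5 5 :=
  ⟨Nat.prime_five, z, hzT, ⟨1, by rw [hz, pow_one]⟩, by
    rw [hc]
    have h1 : Nat.gcd 25 (Nat.card T) ∣ 5 ^ 2 := Nat.gcd_dvd_left _ _
    obtain ⟨k, hk2, hk⟩ := (Nat.dvd_prime_pow Nat.prime_five).1 h1
    rw [hk]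
    have h2 : Nat.gcd 25 (Nat.card T) ∣ Nat.card T := Nat.gcd_dvd_right _ _
    rw [hk] at h2
    interval_cases k
    · norm_num
    · norm_num
    · exact absurd h2 h25⟩

/-- the bounds -/
def cf (c5 p : ℕ) : ℕ := if p = 2 then 8 else if p = 3 then 27 else if p = 5 then c5 else if p = 7 then 14 else 11

/-- subgroups of order divisible by 11 -/
theorem row11 (B : Base) {T : Subgroup G1} (hT : T ≠ ⊤) (h11 : 11 ∣ Nat.card T) :
    2 * (Nat.card T * Nat.card (ConjClasses T)) ≤ 898128000 := by
  have h := Cfsg.Agent.H147.Gen.orders2 (Cfsg.Agent.H715.Fpr.McL.ctx B isoMcL_G1) ⟨11, 11, [(5, 1), (11, 1)]⟩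
    (by simp [Cfsg.Agent.H715.Fpr.McL.loc]) os11 20 ho11 T h11 hT
  have h45 := no45 T
  simp only [os11, List.mem_cons, List.not_mem_nil, or_false] at h
  have b11 : ∀ p ∈ ({11} : Finset ℕ), HP T p (cf 25 p) := by
    intro p hp
    rw [Finset.mem_singleton] at hp
    subst hp
    exact hp11 h11
  rcases h with h | h | h | h | h | h | h | h | h | h
  all_goals first | exact absurd h h45 | skip
  all_goals try exact bound {11} (cf 25) _ b11 (by rw [h]; decide)
  refine bound {7, 11} (cf 25) _ ?_ (by rw [h]; decide)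
  intro p hp
  simp only [Finset.mem_insert, Finset.mem_singleton] at hp
  rcases hp with rfl | rfl
  · exact hp7 (by rw [h]; norm_num)
  · exact hp11 h11

section Five

variable {T : Subgroup G1} {z : G1} (hz : orderOf z = 5) (hc : Nat.card (centralizer ({z} : Set G1)) = 25)
    (hzT : z ∈ T)

include hz hc hzT

theorem row35 (B : Base) (hT : T ≠ ⊤) (h7 : 7 ∣ Nat.card T) :
    2 * (Nat.card T * Nat.card (ConjClasses T)) ≤ 898128000 := by
  have h5 : 5 ∣ Nat.card T := by
    have := orderOf_dvd_natCard (⟨z, hzT⟩ : T)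
    rwa [Subgroup.orderOf_mk, hz] at this
  have h35 : 35 ∣ Nat.card T := (by norm_num : Nat.Coprime 5 7).mul_dvd_of_dvd_of_dvd h5 h7
  have h := Cfsg.Agent.H147.Gen.orders2 (Cfsg.Agent.H715.Fpr.McL.ctx B isoMcL_G1) ⟨7, 14, [(2, 1), (3, 1), (7, 1)]⟩
    (by simp [Cfsg.Agent.H715.Fpr.McL.loc]) os35 20 ho35 T h35 hT
  have h45 := no45 T
  simp only [os35, List.mem_cons, List.not_mem_nil, or_false] at h
  have b57 : ∀ p ∈ ({5, 7} : Finset ℕ), HP T p (cf 25 p) := by
    intro p hp
    simp only [Finset.mem_insert, Finset.mem_singleton] at hp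
    rcases hp with rfl | rfl
    · exact hp5 hz hc hzT
    · exact hp7 h7
  rcases h with h | h | h | h | h | h | h | h | h | h | h | h
  all_goals first | exact absurd h h45 | skip
  all_goals try exact bound {5, 7} (cf 25) _ b57 (by rw [h]; decide)
  · refine bound {2, 5, 7} (cf 25) _ ?_ (by rw [h]; decide)
    intro p hp
    simp only [Finset.mem_insert, Finset.mem_singleton] at hp
    rcases hp with rfl | rfl | rfl
    · exact hp2 (by rw [h]; norm_num)
    · exact hp5 hz hc hzT
    · exact hp7 h7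
  · refine bound {2, 3, 5, 7} (cf 5) _ ?_ (by rw [h]; decide)
    intro p hp
    simp only [Finset.mem_insert, Finset.mem_singleton] at hp
    rcases hp with rfl | rfl | rfl | rfl
    · exact hp2 (by rw [h]; norm_num)
    · exact hp3 (by rw [h]; norm_num)
    · exact hp5' hz hc hzT (by rw [h]; norm_num)
    · exact hp7 h7

theorem rowT (B : Base) (h7 : ¬ 7 ∣ Nat.card T) (h11 : ¬ 11 ∣ Nat.card T) :
    2 * (Nat.card T * Nat.card (ConjClasses T)) ≤ 898128000 := by
  have hd : Nat.card T ∣ 11664000 := by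
    have h1 : Nat.card T ∣ 11 * (7 * 11664000) := by
      have := Subgroup.card_subgroup_dvd_card T
      rwa [card_G1] at this
    have c11 : Nat.Coprime (Nat.card T) 11 := ((Nat.Prime.coprime_iff_not_dvd (by norm_num)).2 h11).symm
    have c7 : Nat.Coprime (Nat.card T) 7 := ((Nat.Prime.coprime_iff_not_dvd (by norm_num)).2 h7).symm
    exact c7.dvd_of_dvd_mul_left (c11.dvd_of_dvd_mul_left h1)
  have hpos : 0 < Nat.card T := Nat.card_pos
  by_cases h25 : 25 ∣ Nat.card T
  · have hle := card_le_of_25 B.table (fun S => B.known S inferInstance) (by rw [card_G1]; norm_num) (fun y hy => five hy) hz hc hzT hd h25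
    refine bound {5} (cf 25) _ (fun p hp => ?_) ?_
    · rw [Finset.mem_singleton] at hp
      subst hp
      exact hp5 hz hc hzT
    · rw [Finset.sum_singleton, Finset.prod_singleton]
      have h1 : Nat.card T / 5 ^ 2 ≤ 93000 / 5 ^ 2 := Nat.div_le_div_right hle
      calc 2 * (Nat.card T * (cf 25 5 + Nat.card T / 5 ^ 2)) ≤ 2 * (93000 * (25 + 93000 / 5 ^ 2)) :=
            Nat.mul_le_mul_left 2 (Nat.mul_le_mul hle (Nat.add_le_add_left h1 25))
        _ ≤ 898128000 := by norm_num
  · have hd2 : Nat.card T ∣ 466560 := by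
      obtain ⟨k, hk⟩ : 5 ∣ Nat.card T := by
        have := orderOf_dvd_natCard (⟨z, hzT⟩ : T)
        rwa [Subgroup.orderOf_mk, hz] at this
      have h5k : ¬ 5 ∣ k := fun ⟨l, hl⟩ => h25 ⟨l, by rw [hk, hl]; ring⟩
      have h1 : k ∣ 5 ^ 2 * 93312 := by
        rw [hk] at hd
        exact Nat.dvd_of_mul_dvd_mul_left (by norm_num : 0 < 5) (by simpa using hd)
      have h2 : k ∣ 93312 :=
        (Nat.Coprime.pow_right 2 ((Nat.Prime.coprime_iff_not_dvd Nat.prime_five).2 h5k).symm).dvd_of_dvd_mul_left h1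
      rw [hk]
      exact (Nat.mul_dvd_mul_left 5 h2)
    have e5 := hp5' hz hc hzT h25
    by_cases hle : Nat.card T ≤ 105000
    · refine bound {5} (cf 5) _ (fun p hp => ?_) ?_
      · rw [Finset.mem_singleton] at hp
        subst hp
        exact e5
      · rw [Finset.sum_singleton, Finset.prod_singleton]
        have h1 : Nat.card T / 5 ^ 2 ≤ 105000 / 5 ^ 2 := Nat.div_le_div_right hle
        calc 2 * (Nat.card T * (cf 5 5 + Nat.card T / 5 ^ 2)) ≤ 2 * (105000 * (5 + 105000 / 5 ^ 2)) :=
              Nat.mul_le_mul_left 2 (Nat.mul_le_mul hle (Nat.add_le_add_left h1 5))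
          _ ≤ 898128000 := by norm_num
    · push Not at hle
      obtain ⟨q, hq⟩ := hd2
      have hq4 : q ≤ 4 := by
        by_contra hcon
        push Not at hcon
        have : Nat.card T * 5 ≤ Nat.card T * q := Nat.mul_le_mul_left _ hcon
        omega
      have h : Nat.card T = 466560 ∨ Nat.card T = 233280 ∨ Nat.card T = 155520 ∨ Nat.card T = 116640 := by
        interval_cases q <;> omega
      rcases h with h | h | h | h
      · refine bound {2, 3, 5} (cf 5) _ ?_ (by rw [h]; decide)
        intro p hp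
        simp only [Finset.mem_insert, Finset.mem_singleton] at hp
        rcases hp with rfl | rfl | rfl
        · exact hp2 (by rw [h]; norm_num)
        · exact hp3 (by rw [h]; norm_num)
        · exact e5
      · refine bound {3, 5} (cf 5) _ ?_ (by rw [h]; decide)
        intro p hp
        simp only [Finset.mem_insert, Finset.mem_singleton] at hp
        rcases hp with rfl | rfl
        · exact hp3 (by rw [h]; norm_num)
        · exact e5
      · refine bound {2, 5} (cf 5) _ ?_ (by rw [h]; decide)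
        intro p hp
        simp only [Finset.mem_insert, Finset.mem_singleton] at hp
        rcases hp with rfl | rfl
        · exact hp2 (by rw [h]; norm_num)
        · exact e5
      · refine bound {3, 5} (cf 5) _ ?_ (by rw [h]; decide)
        intro p hp
        simp only [Finset.mem_insert, Finset.mem_singleton] at hp
        rcases hp with rfl | rfl
        · exact hp3 (by rw [h]; norm_num)
        · exact e5

end Five

/-- the row of the model -/
theorem row_G1 (B : Base) (D : Set ℕ) : FrobRow 2 D G1 := by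
  obtain ⟨u, z, hu, hz, hrel, hc⟩ := frob
  have hrel' : z * u * z⁻¹ = u ^ 4 := by rw [hrel]; group
  refine ⟨zpowers u, zpowers z, by rw [Nat.card_zpowers, hu]; norm_num, ?_, ?_, ?_, ?_⟩
  · rw [zpowers_le]
    have h1 : (zpowers u).map (MulAut.conj z).toMonoidHom ≤ zpowers u := by
      rintro _ ⟨x, hx, rfl⟩
      obtain ⟨k, rfl⟩ := hx
      have : (MulAut.conj z).toMonoidHom (u ^ k) = (u ^ 4) ^ k := by
        rw [map_zpow]
        congr 1
      change (MulAut.conj z).toMonoidHom (u ^ k) ∈ zpowers u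
      rw [this]
      exact zpow_mem (pow_mem (mem_zpowers u) 4) k
    have h2 : (zpowers u).map (MulAut.conj z).toMonoidHom = zpowers u := by
      apply Subgroup.eq_of_le_of_card_ge h1
      rw [Subgroup.card_map_of_injective (MulAut.conj z).injective]
    rw [mem_normalizer_iff]
    intro g
    constructor
    · intro hg
      exact h1 ⟨g, hg, rfl⟩
    · intro hg
      have h3 : z * g * z⁻¹ ∈ (zpowers u).map (MulAut.conj z).toMonoidHom := by rw [h2]; exact hg
      obtain ⟨g', hg', h4⟩ := h3
      have h5 : g' = g := (MulAut.conj z).injective h4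
      rwa [← h5]
  · intro x hx g hg hgx
    by_cases hx1 : x = 1
    · exact Or.inl hx1
    · right
      have hxo : orderOf x = 11 := by
        have h1 : orderOf x ∣ 11 := by rw [← hu]; exact orderOf_dvd_of_mem_zpowers hx
        rcases (Nat.dvd_prime (by norm_num)).1 h1 with h | h
        · exact absurd (orderOf_eq_one_iff.1 h) hx1
        · exact h
      have h2 : orderOf g ∣ 11 := by
        have h3 : g ∈ centralizer ({x} : Set G1) := mem_centralizer_singleton_iff.2 hgx
        have := orderOf_dvd_natCard (⟨g, h3⟩ : centralizer ({x} : Set G1))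
        rwa [Subgroup.orderOf_mk, Cfsg.Agent.H686.Odd.McL.eleven_card hxo] at this
      have h4 : orderOf g ∣ 5 := by rw [← hz]; exact orderOf_dvd_of_mem_zpowers hg
      exact orderOf_eq_one_iff.1 (Nat.eq_one_of_dvd_coprimes (by norm_num : Nat.Coprime 11 5) h2 h4)
  · intro h
    rw [zpowers_eq_bot] at h
    rw [h, orderOf_one] at hz
    norm_num at hz
  · intro T hT hPQ _
    rw [card_G1]
    rcases hPQ with h | h
    · refine row11 B hT ?_
      rw [← hu, ← Nat.card_zpowers]
      exact Subgroup.card_dvd_of_le h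
    · have hzT : z ∈ T := h (mem_zpowers z)
      by_cases h11 : 11 ∣ Nat.card T
      · exact row11 B hT h11
      by_cases h7 : 7 ∣ Nat.card T
      · exact row35 hz hc hzT B hT h7
      · exact rowT hz hc hzT B h7 h11

/-- **FROB for `McL`** -/
theorem row (B : Base) {X : Type v} [Group X] (hX : Spor.IsoMcL X) (D : Set ℕ) : FrobRow 2 D X := by
  obtain ⟨e⟩ := hX
  obtain ⟨f⟩ := isoMcL_G1
  exact frobRow_congr (e.trans f.symm) (row_G1 B D)

/-- **FROB for `McL`**, from the order -/
theorem row' (B : Base) (OT : OrdDiv.OrderTable.{v}) {X : Type v} [Group X] [Finite X]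
    (hk : IsSimpleGroup X → IsKnownSimple' X) (hX : IsMcL X) (D : Set ℕ) : FrobRow 2 D X :=
  row B (Cfsg.Agent.H852.FrobOrd.mcl OT hk hX) D

end Cfsg.Agent.H757.S8.McL
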