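import Cfsg.Agent.H757.S8.HeNon
import Cfsg.Agent.H147.Fpr.He
import Cfsg.Agent.H19.Odd.HeCntD
import Cfsg.Agent.H147.Gen.Eng

/-!
# S4908: FROB for `He` (helper757)

The Frobenius group `3:2`; `2 |T| k(T) ≤ |He|` for all proper subgroups `T`. Order divisible by 17: the order engine;
order divisible by 25 or 49: `HeNon`; the class numbers: `KLe` with elements of order 5, 7, 17.
-/

set_option autoImplicit false
set_option maxRecDepth 100000

namespace Cfsg.Agent.H757.S8.He

open Subgroup Cfsg Cfsg.Agent.H704.S8 Cfsg.Agent.H940.Eng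
open Cfsg.Spor.He (Gen)
open Cfsg.Agent.SporadicB.HePerm (act wd)
open Cfsg.Agent.FixBN.HeStab Cfsg.Agent.KFacts.He.Lv Cfsg.Agent.CpAutHe.Cnt

universe v

local instance fin2 : Finite Spor.He := BpSpor.HeThree.finite_he

section Bnd

variable {X : Type*} [Group X] [Finite X] {T : Subgroup X}

theorem bnd1 {p c N B : ℕ} (h : HP T p c) (hle : Nat.card T ≤ N) (hb : 2 * (N * (c + N / p ^ 2)) ≤ B) :
    2 * (Nat.card T * Nat.card (ConjClasses T)) ≤ B := by
  refine bound {p} (fun _ => c) _ (fun p' hp => ?_) ?_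
  · rw [Finset.mem_singleton] at hp
    subst hp
    exact h
  · rw [Finset.sum_singleton, Finset.prod_singleton]
    exact (Nat.mul_le_mul_left 2 (Nat.mul_le_mul hle (Nat.add_le_add_left (Nat.div_le_div_right hle) c))).trans hb

theorem bnd2 {p q c d N B : ℕ} (hpq : p ≠ q) (h : HP T p c) (h' : HP T q d) (hle : Nat.card T ≤ N)
    (hb : 2 * (N * (c + d + N / (p * q) ^ 2)) ≤ B) : 2 * (Nat.card T * Nat.card (ConjClasses T)) ≤ B := by
  refine bound {p, q} (fun r => if r = p then c else d) _ (fun p' hp => ?_) ?_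
  · rw [Finset.mem_insert, Finset.mem_singleton] at hp
    rcases hp with rfl | rfl
    · simpa using h
    · simpa [hpq.symm] using h'
  · rw [Finset.sum_pair hpq, Finset.prod_pair hpq, if_pos rfl, if_neg hpq.symm]
    exact (Nat.mul_le_mul_left 2 (Nat.mul_le_mul hle (Nat.add_le_add_left (Nat.div_le_div_right hle) _))).trans hb

theorem bnd0 {N B : ℕ} (hle : Nat.card T ≤ N) (hb : 2 * (N * N) ≤ B) :
    2 * (Nat.card T * Nat.card (ConjClasses T)) ≤ B := by
  have h1 : Nat.card (ConjClasses T) ≤ Nat.card T := Nat.card_le_card_of_surjective _ ConjClasses.mk_surjective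
  exact (Nat.mul_le_mul_left 2 (Nat.mul_le_mul hle (h1.trans hle))).trans hb

omit [Finite X] in
/-- FROB from an involution inverting an element of odd prime order -/
theorem frob_of_inv {c p : ℕ} {D : Set ℕ} (hp : p.Prime) (hp2 : p ≠ 2) {x t : X} (hx : orderOf x = p) (ht : orderOf t = 2)
    (h : t * x * t⁻¹ = x⁻¹) (hall : ∀ T : Subgroup X, T ≠ ⊤ → c * (Nat.card T * Nat.card (ConjClasses T)) ≤ Nat.card X) :
    FrobRow c D X := by
  have hinv : ∀ u ∈ zpowers x, t * u * t⁻¹ = u⁻¹ := by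
    rintro _ ⟨k, rfl⟩
    change t * x ^ k * t⁻¹ = (x ^ k)⁻¹
    rw [← conj_zpow, h, inv_zpow]
  refine ⟨zpowers x, zpowers t, by rw [Nat.card_zpowers, hx]; exact hp, ?_, ?_, ?_, fun T hT _ _ => hall T hT⟩
  · rw [zpowers_le, mem_normalizer_iff]
    intro g
    constructor
    · intro hg
      rw [hinv g hg]
      exact inv_mem hg
    · intro hg
      have h1 := hinv _ hg
      have htt : t * t = 1 := by rw [← pow_two, ← ht, pow_orderOf_eq_one]
      have h2 : t * (t * g * t⁻¹) * t⁻¹ = g := by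
        calc t * (t * g * t⁻¹) * t⁻¹ = t * t * g * (t * t)⁻¹ := by group
          _ = g := by rw [htt]; group
      rw [← h2, h1]
      exact inv_mem hg
  · rintro u hu _ ⟨k, rfl⟩ hgu
    by_cases hg : (fun i : ℤ => t ^ i) k = 1
    · exact Or.inr hg
    left
    have hk : t ^ k = t := by
      have h2 := (zpow_mod_orderOf t k).symm
      rw [ht, Nat.cast_ofNat] at h2
      rcases Int.emod_two_eq_zero_or_one k with h3 | h3
      · rw [h3, zpow_zero] at h2
        exact absurd h2 hg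
      · rw [h2, h3, zpow_one]
    have h3 : t * u = u * t := by
      have : t ^ k * u = u * t ^ k := hgu
      rwa [hk] at this
    have h4 : u⁻¹ = u := by rw [← hinv u hu, h3, mul_inv_cancel_right]
    have h5 : u * u = 1 := by
      conv_lhs => rw [← h4]
      rw [h4]
      conv_lhs => arg 1; rw [← h4]
      exact inv_mul_cancel u
    have h6 : orderOf u ∣ 2 := orderOf_dvd_of_pow_eq_one (by rw [pow_two, h5])
    have h7 : orderOf u ∣ p := by rw [← hx]; exact orderOf_dvd_of_mem_zpowers hu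
    exact orderOf_eq_one_iff.1 (Nat.eq_one_of_dvd_coprimes ((Nat.coprime_primes Nat.prime_two hp).2 hp2.symm) h6 h7)
  · intro h
    rw [zpowers_eq_bot] at h
    rw [h, orderOf_one] at ht
    norm_num at ht

end Bnd

/-! ### the class numbers -/

theorem hp5 {T : Subgroup Spor.He} (h : 5 ∣ Nat.card T) : HP T 5 300 :=
  HP.of_order (by norm_num) h fun _ hy => hf.five _ hy

theorem c7 {y : Spor.He} (hy : orderOf y = 7) : Nat.card (centralizer ({y} : Set Spor.He)) ≤ 2058 := by
  rcases hf.seven y hy with h | ⟨-, h⟩ | ⟨-, h, -⟩ <;> omega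

theorem hp7 {T : Subgroup Spor.He} (h : 7 ∣ Nat.card T) : HP T 7 2058 :=
  HP.of_order (by norm_num) h fun _ hy => c7 hy

theorem hp7' {T : Subgroup Spor.He} (h : 7 ∣ Nat.card T) (h49 : ¬ 49 ∣ Nat.card T) : HP T 7 294 := by
  have f7 : Fact (Nat.Prime 7) := ⟨by norm_num⟩
  obtain ⟨y, hy⟩ := exists_prime_orderOf_dvd_card' 7 h
  have hy' : orderOf (y : Spor.He) = 7 := by rw [Subgroup.orderOf_coe, hy]
  refine ⟨by norm_num, y, y.2, ⟨1, by rw [hy', pow_one]⟩, ?_⟩
  have h1 : 7 ^ 2 ∣ Nat.card (centralizer ({(y : Spor.He)} : Set Spor.He)) :=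
    Cfsg.Agent.CpAutCo3.MTw.sq_dvd (by rw [card_he]; norm_num)
      (IsPGroup.of_card (n := 1) (by rw [Nat.card_zpowers, hy', pow_one]))
  have h2 := c7 hy'
  obtain ⟨e, he⟩ := Nat.gcd_dvd_left (Nat.card (centralizer ({(y : Spor.He)} : Set Spor.He))) (Nat.card T)
  have h3 := Nat.gcd_dvd_right (Nat.card (centralizer ({(y : Spor.He)} : Set Spor.He))) (Nat.card T)
  have hpos : 0 < Nat.card (centralizer ({(y : Spor.He)} : Set Spor.He)) := Nat.card_pos
  generalize Nat.gcd (Nat.card (centralizer ({(y : Spor.He)} : Set Spor.He))) (Nat.card T) = d at *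
  generalize Nat.card (centralizer ({(y : Spor.He)} : Set Spor.He)) = m at *
  have h4 : 7 ∣ e := by
    by_contra hcon
    have c : Nat.Coprime (7 ^ 2) e := Nat.Coprime.pow_left 2 ((Nat.Prime.coprime_iff_not_dvd (by norm_num)).2 hcon)
    rw [he] at h1
    exact h49 ((c.dvd_of_dvd_mul_right h1).trans h3)
  obtain ⟨f, rfl⟩ := h4
  have hf0 : 1 ≤ f := by
    rcases Nat.eq_zero_or_pos f with rfl | hf
    · omega
    · exact hf
  have h5 : d * 7 ≤ d * (7 * f) := Nat.mul_le_mul_left d (by omega)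
  omega

theorem hp17 {T : Subgroup Spor.He} (h : 17 ∣ Nat.card T) : HP T 17 17 :=
  HP.of_order (by norm_num) h fun _ hy => Cfsg.Agent.H19.Odd.HeCnt.seventeen hy

def os17 : List ℕ := [17, 34, 68, 136, 2448, 4080, 4352, 8160, 8704, 16320, 17408, 979200, 1958400]

theorem ho17 : chkO2 D.l_he D.n_he 17 ⟨17, 17, [(2, 3), (17, 1)]⟩ os17 [] 20
    Cfsg.Agent.H147.Fpr.He.loc D.o_he = true := by decide +kernel

/-- subgroups of order divisible by 17 -/
theorem row17 (B : Base) {T : Subgroup Spor.He} (hT : T ≠ ⊤) (h17 : 17 ∣ Nat.card T) :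
    2 * (Nat.card T * Nat.card (ConjClasses T)) ≤ 4030387200 := by
  have h := Cfsg.Agent.H147.Gen.orders2 (Cfsg.Agent.H147.Fpr.He.ctx B) ⟨17, 17, [(2, 3), (17, 1)]⟩
    (by simp [Cfsg.Agent.H147.Fpr.He.loc]) os17 20 ho17 T h17 hT
  simp only [os17, List.mem_cons, List.not_mem_nil, or_false] at h
  rcases h with h | h | h | h | h | h | h | h | h | h | h | h | h
  all_goals try exact bnd0 h.le (by decide)
  all_goals exact bnd2 (by norm_num) (hp5 (by rw [h]; norm_num)) (hp17 h17) h.le (by norm_num)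

theorem all (B : Base) {T : Subgroup Spor.He} (hT : T ≠ ⊤) :
    2 * (Nat.card T * Nat.card (ConjClasses T)) ≤ 4030387200 := by
  by_cases h17 : 17 ∣ Nat.card T
  · exact row17 B hT h17
  have hKn : Kn := fun S => B.known S inferInstance
  have hd := dvd_T hf h17
  by_cases h49 : 49 ∣ Nat.card T
  · exact bnd1 (hp7 ((by norm_num : (7 : ℕ) ∣ 49).trans h49)) (str49 B.table hKn hf h17 h49) (by norm_num)
  by_cases h25 : 25 ∣ Nat.card T
  · have h5 : 5 ∣ Nat.card T := (by norm_num : (5 : ℕ) ∣ 25).trans h25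
    rcases str25 B.table hKn hf h17 h25 h49 with h | ⟨h7, h⟩
    · exact bnd1 (hp5 h5) h (by norm_num)
    · exact bnd2 (by norm_num) (hp5 h5) (hp7' h7 h49) h (by norm_num)
  -- the small orders
  have key : ∀ {p m n : ℕ} (k : ℕ), p.Prime → ¬ p ^ (k + 1) ∣ Nat.card T → Nat.card T ∣ p ^ n * m → Nat.card T ∣ p ^ k * m := by
    intro p m n k hp hk hd
    obtain ⟨a, b, ha, hb, hab⟩ := (Nat.dvd_mul).1 hd
    obtain ⟨j, hj, rfl⟩ := (Nat.dvd_prime_pow hp).1 ha
    rw [← hab]
    refine Nat.mul_dvd_mul (pow_dvd_pow p ?_) hb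
    by_contra hcon
    exact hk ((pow_dvd_pow p (show k + 1 ≤ j by omega)).trans (hab ▸ Nat.dvd_mul_right _ _))
  have hd1 : Nat.card T ∣ 5 ^ 2 * 9483264 := by norm_num; exact hd
  have hd2 := key 1 Nat.prime_five (by norm_num; exact h25) hd1
  have hd3 : Nat.card T ∣ 7 ^ 3 * 138240 := by norm_num at hd2 ⊢; exact hd2
  have hd4 := key 1 (by norm_num) (by norm_num; exact h49) hd3
  norm_num at hd4
  by_cases h5 : 5 ∣ Nat.card T
  · by_cases h7 : 7 ∣ Nat.card T
    · exact bnd2 (by norm_num) (hp5 h5) (hp7' h7 h49) (Nat.le_of_dvd (by norm_num) hd4) (by norm_num)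
    · have hd5 : Nat.card T ∣ 7 ^ 1 * 138240 := by norm_num; exact hd4
      have hd6 := key 0 (by norm_num) (by norm_num; exact h7) hd5
      norm_num at hd6
      exact bnd1 (hp5 h5) (Nat.le_of_dvd (by norm_num) hd6) (by norm_num)
  · have hd5 : Nat.card T ∣ 5 ^ 1 * 193536 := by norm_num; exact hd4
    have hd6 := key 0 Nat.prime_five (by norm_num; exact h5) hd5
    norm_num at hd6
    by_cases h7 : 7 ∣ Nat.card T
    · exact bnd1 (hp7' h7 h49) (Nat.le_of_dvd (by norm_num) hd6) (by norm_num)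
    · have hd7 : Nat.card T ∣ 7 ^ 1 * 27648 := by norm_num; exact hd6
      have hd8 := key 0 (by norm_num) (by norm_num; exact h7) hd7
      norm_num at hd8
      exact bnd0 (Nat.le_of_dvd (by norm_num) hd8) (by norm_num)

/-! ### the Frobenius group `3:2` -/

theorem x_pow : wd [.b, .c] ^ 3 = 1 := Cfsg.Agent.H19.Odd.HeEl.pow_of_chk (by decide +kernel)
theorem x_ne : wd [.b, .c] ≠ 1 := Cfsg.Agent.CpAutHe.Seven.ne_one_of_act 0 (by decide +kernel)
theorem t_pow : wd [.b] ^ 2 = 1 := Cfsg.Agent.H19.Odd.HeEl.pow_of_chk (by decide +kernel)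
theorem t_ne : wd [.b] ≠ 1 := Cfsg.Agent.CpAutHe.Seven.ne_one_of_act 0 (by decide +kernel)
theorem x_conj : wd [.b] * wd [.b, .c] * (wd [.b])⁻¹ = wd (pw [.b, .c] 2) :=
  Cfsg.Agent.H19.Odd.HeEl.conj_of_chk (by decide +kernel)

/-- the row of the model -/
theorem row_He (B : Base) (D : Set ℕ) : FrobRow 2 D Spor.He := by
  refine frob_of_inv Nat.prime_three (by norm_num)
    (Cfsg.Agent.H19.Odd.HeEl.orderOf_of Nat.prime_three x_pow x_ne)
    (Cfsg.Agent.H19.Odd.HeEl.orderOf_of Nat.prime_two t_pow t_ne) ?_ fun T hT => ?_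
  · rw [x_conj, wd_pw, eq_comm, inv_eq_iff_mul_eq_one, ← pow_succ', x_pow]
  · rw [card_he]
    exact all B hT

/-- **FROB for `He`** -/
theorem row (B : Base) {X : Type v} [Group X] (hX : Spor.IsoHe X) (D : Set ℕ) : FrobRow 2 D X := by
  obtain ⟨e⟩ := hX
  exact frobRow_congr e (row_He B D)

end Cfsg.Agent.H757.S8.He
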