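import Cfsg.Agent.H757.S8.McLStr
import Cfsg.Agent.H365.SporCheck
import Cfsg.Agent.H934.OutB

/-!
# S4908, FROB for `He`: the simple groups of order dividing `237081600` (helper757)
-/

set_option autoImplicit false
set_option maxRecDepth 100000

namespace Cfsg.Agent.H757.S8.He

open Subgroup Cfsg Cfsg.Agent.OrdDiv Cfsg.Agent.H365.SporCheck

/-- the orders and multiples of the orders of the automorphism groups -/
def tbl : List (ℕ × ℕ) := [(60, 120), (168, 336), (360, 1440), (504, 1512), (2520, 5040), (6048, 145152),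
  (20160, 241920), (58800, 235200), (604800, 1209600)]

/-- the check -/
def chkA (g : Grp) : Bool := tbl.any fun p => Nat.beq (ordN g) p.1 &&
  (Nat.beq p.1 60 || Nat.beq p.1 360 || (okC g && Nat.beq (p.2 % (outC g * p.1)) 0))

theorem chk_all : (cands [(2, 10), (3, 3), (5, 2), (7, 3)] 237081600).all chkA = true := by decide +kernel

theorem aut_a5_dvd : Nat.card (MulAut (alternatingGroup (Fin 5))) ≤ 120 := by
  choose σ hσ using Cfsg.Agent.OddCyclic.EmpFFAlt.exists_conj
  have hinj : Function.Injective σ := by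
    intro e f hef
    ext x
    rw [hσ e x, hσ f x, hef]
  have := Nat.card_le_card_of_injective σ hinj
  rwa [Nat.card_eq_fintype_card (α := Equiv.Perm (Fin 5)), Fintype.card_perm, Fintype.card_fin] at this

theorem aut_60 (OT : OrderTable.{0}) (hS : Kn) {S : Type} [Group S] [Finite S] [IsSimpleGroup S]
    (hna : ¬ ∀ x y : S, x * y = y * x) (h : Nat.card S = 60) : Nat.card (MulAut S) ∣ 120 := by
  have hna' : ¬ IsMulCommutative S := fun hc => hna fun a b => hc.is_comm.comm a b
  have h1 := H934.OutB.card_out_mul S hna'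
  have h2 : Nat.card (MulAut S) ≤ 120 := by
    obtain ⟨g, hg, hr⟩ := exists_real_filter OT (hS S) hna (l := [(2, 2), (3, 1), (5, 1)])
      (N := 60) (by decide +kernel) (by rw [h]) (fun o => Nat.beq o 60) (by rw [h]; rfl)
    rw [show ((cands [(2, 2), (3, 1), (5, 1)] 60).filter fun g => Nat.beq (ordN g) 60) =
      [.alt 5, .psl 2 4, .psl 2 5] by decide +kernel] at hg
    simp only [List.mem_cons, List.not_mem_nil, or_false] at hg
    rcases hg with rfl | rfl | rfl
    · obtain ⟨e⟩ := hr
      rw [H251.Der.card_aut_congr e]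
      exact aut_a5_dvd
    · obtain ⟨F, _, _, hF, ⟨e⟩⟩ := hr
      obtain ⟨f⟩ := Cfsg.Agent.S0252.result (F := F) hF
      rw [H251.Der.card_aut_congr (e.trans f)]
      exact aut_a5_dvd
    · obtain ⟨F, _, _, hF, ⟨e⟩⟩ := hr
      obtain ⟨f⟩ := Cfsg.Agent.S0253.result (F := F) hF
      rw [H251.Der.card_aut_congr (e.trans f)]
      exact aut_a5_dvd
  have h0 : Nat.card (MulAut S) ≠ 0 := by
    have : Finite (MulAut S) := Finite.of_injective (fun f : MulAut S => (f : S → S)) DFunLike.coe_injective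
    exact Nat.card_pos.ne'
  rw [h] at h1
  have h3 : Nat.card (Cfsg.Out S) = 1 ∨ Nat.card (Cfsg.Out S) = 2 := by omega
  rcases h3 with h3 | h3 <;> rw [← h1, h3]; norm_num

theorem aut_dvd (OT : OrderTable.{0}) (hS : Kn) {S : Type} [Group S] [Finite S] [IsSimpleGroup S]
    (hna : ¬ ∀ x y : S, x * y = y * x) (hd : Nat.card S ∣ 237081600) :
    ∃ p ∈ tbl, Nat.card S = p.1 ∧ Nat.card (MulAut S) ∣ p.2 := by
  obtain ⟨g, hg, hr, ho⟩ := exists_good OT (hS S) hna (l := [(2, 10), (3, 3), (5, 2), (7, 3)]) (N := 237081600)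
    (by decide +kernel) hd
  have h := chk_all
  rw [List.all_eq_true] at h
  have h1 := h g hg
  rw [chkA, List.any_eq_true] at h1
  obtain ⟨p, hp, h2⟩ := h1
  rw [Bool.and_eq_true, Bool.or_eq_true, Bool.or_eq_true, Bool.and_eq_true, ← ho] at h2
  obtain ⟨h3, h4⟩ := h2
  have h3 : Nat.card S = p.1 := Nat.eq_of_beq_eq_true h3
  refine ⟨p, hp, h3, ?_⟩
  rcases h4 with (h4 | h4) | ⟨h4, h5⟩
  · have h6 : p.1 = 60 := Nat.eq_of_beq_eq_true h4
    have h7 := aut_60 OT hS hna (h3.trans h6)
    simp only [tbl, List.mem_cons, List.not_mem_nil, or_false] at hp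
    rcases hp with rfl | rfl | rfl | rfl | rfl | rfl | rfl | rfl | rfl <;> first | exact h7 | (norm_num at h6)
  · have h6 : p.1 = 360 := Nat.eq_of_beq_eq_true h4
    have h7 := H251.Der.aut_360 OT hS hna (h3.trans h6)
    simp only [tbl, List.mem_cons, List.not_mem_nil, or_false] at hp
    rcases hp with rfl | rfl | rfl | rfl | rfl | rfl | rfl | rfl | rfl <;> first | exact h7.dvd | (norm_num at h6)
  · have hna' : ¬ IsMulCommutative S := fun hc => hna fun a b => hc.is_comm.comm a b
    have h6 := out_dvd OT hna g h4 hr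
    rw [← H934.OutB.card_out_mul S hna', h3]
    exact (Nat.mul_dvd_mul_right h6 p.1).trans (Nat.dvd_of_mod_eq_zero (Nat.eq_of_beq_eq_true h5))

end Cfsg.Agent.H757.S8.He
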