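import Cfsg.Agent.H736.S4095.He
import Cfsg.Agent.H19.Odd.HeEl7

/-!
# S4908, FROB for `He`: the facts (helper757)
-/

set_option autoImplicit false
set_option maxRecDepth 100000

namespace Cfsg.Agent.H757.S8.He

open Subgroup Cfsg
open Cfsg.Spor.He (Gen)
open Cfsg.Agent.SporadicB.HePerm (act wd)
open Cfsg.Agent.FixBN.HeStab Cfsg.Agent.KFacts.He.Lv Cfsg.Agent.CpAutHe.Cnt Cfsg.Agent.CpAutHe.Bound
open Cfsg.Agent.CpAutHe.Seven Cfsg.Agent.H19.Odd Cfsg.Agent.H19.Odd.HeCnt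
open Cfsg.Agent.KFacts.He.TwoACent (L L_comm_a a_ne_one two mem_C_of_comm gn_mem_L gn_mul_self gn_inv)

/-- the facts on the Held group -/
structure HF (X : Type) [Group X] : Prop where
  card : Nat.card X = 4030387200
  two : ∀ t : X, orderOf t = 2 → Nat.card (centralizer ({t} : Set X)) ∣ 161280 ∨ Nat.card (centralizer ({t} : Set X)) ∣ 21504
  three : ∀ y : X, orderOf y = 3 → Nat.card (centralizer ({y} : Set X)) ≤ 7560
  five : ∀ y : X, orderOf y = 5 → Nat.card (centralizer ({y} : Set X)) ≤ 300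
  ff : ∀ b y : X, orderOf b = 5 → orderOf y = 7 → ¬ Commute y b
  seven : ∀ y : X, orderOf y = 7 → Nat.card (centralizer ({y} : Set X)) ≤ 196 ∨
    (343 ∣ Nat.card (centralizer ({y} : Set X)) ∧ Nat.card (centralizer ({y} : Set X)) ≤ 2058) ∨
    (3 ∣ Nat.card (centralizer ({y} : Set X)) ∧ Nat.card (centralizer ({y} : Set X)) ≤ 1176 ∧
      ∃ u : X, Commute u y ∧ u ^ 4 = 1 ∧ u ^ 2 ≠ 1)
  small : ∃ y : X, orderOf y = 7 ∧ Nat.card (centralizer ({y} : Set X)) ≤ 196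

local instance fin : Finite Spor.He := BpSpor.HeThree.finite_he

theorem card_he : Nat.card Spor.He = 4030387200 := Cfsg.Agent.KFacts.He.Classes.card_he

/-- an element of order 4 commuting with `x0` -/
def U4 : List Gen := [.f, .d, .c, .d, .f, .c, .d, .c, .d, .f, .c, .d, .c, .d, .c, .f, .d, .e, .d, .b, .a, .b, .f, .d, .e, .d, .b, .a, .b,
  .f, .d, .e, .d, .b, .a, .b]

/-- an element of order 3 commuting with `x0` -/
def W3 : List Gen := [.e, .b, .f, .c, .d, .c, .b, .a, .b, .c, .d, .c, .f, .b, .e, .f, .d, .c, .d, .f, .c, .d, .c, .d, .f, .c, .d, .c, .d,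
  .c, .e, .b, .f, .c, .d, .c, .b, .a, .b, .c, .d, .c, .f, .b, .e, .f, .d, .c, .d, .f, .c, .d, .c, .d, .f, .c, .d,
  .c, .d, .c, .a, .e, .b, .f, .c, .d, .c, .b, .a, .b, .c, .d, .c, .f, .b, .e, .c, .e, .d, .f, .d, .c, .b, .a, .b,
  .d, .g, .d, .e, .b, .a, .b, .d, .g, .d, .e]

theorem u4_comm : Commute (wd U4) (wd X0) := HeEl.comm_of_chk (by decide +kernel)
theorem u4_pow : wd U4 ^ 4 = 1 := HeEl.pow_of_chk (by decide +kernel)
theorem u4_sq : wd (pw U4 2) ≠ 1 := ne_one_of_act 8 (by decide +kernel)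
theorem w3_comm : Commute (wd W3) (wd X0) := HeEl.comm_of_chk (by decide +kernel)
theorem w3_pow : wd W3 ^ 3 = 1 := HeEl.pow_of_chk (by decide +kernel)
theorem w3_ne : wd W3 ≠ 1 := ne_one_of_act 0 (by decide +kernel)

theorem u4_ne : wd U4 ^ 2 ≠ 1 := by
  rw [← wd_pw]; exact u4_sq

theorem w3_order : orderOf (wd W3) = 3 := HeEl.orderOf_of Nat.prime_three w3_pow w3_ne

theorem three_dvd : 3 ∣ Nat.card (centralizer ({wd X0} : Set Spor.He)) := by
  have h : wd W3 ∈ centralizer ({wd X0} : Set Spor.He) := mem_centralizer_singleton_iff.2 w3_comm.eq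
  have := orderOf_dvd_natCard (⟨wd W3, h⟩ : centralizer ({wd X0} : Set Spor.He))
  rwa [Subgroup.orderOf_mk, w3_order] at this

theorem zpowers_eq {x y : Spor.He} (hx : orderOf x = 7) (hy : orderOf y = 7) (h : x ∈ zpowers y) :
    zpowers x = zpowers y := by
  apply Subgroup.eq_of_le_of_card_ge (by rwa [zpowers_le])
  rw [Nat.card_zpowers, Nat.card_zpowers, hx, hy]

theorem alt3 {y g : Spor.He} (h : zpowers (g * y * g⁻¹) = zpowers (wd X0)) :
    3 ∣ Nat.card (centralizer ({y} : Set Spor.He)) ∧ Nat.card (centralizer ({y} : Set Spor.He)) ≤ 1176 ∧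
      ∃ u : Spor.He, Commute u y ∧ u ^ 4 = 1 ∧ u ^ 2 ≠ 1 := by
  rw [Heis.card_cent_eq h]
  refine ⟨three_dvd, card0, g⁻¹ * wd U4 * g, ?_, ?_, ?_⟩
  · have h1 : g * y * g⁻¹ ∈ zpowers (wd X0) := by rw [← h]; exact mem_zpowers _
    obtain ⟨k, hk⟩ := h1
    have h2 : Commute (wd U4) (g * y * g⁻¹) := by
      rw [← hk]
      exact u4_comm.zpow_right k
    have h3 := h2.eq
    change g⁻¹ * wd U4 * g * y = y * (g⁻¹ * wd U4 * g)
    calc g⁻¹ * wd U4 * g * y = g⁻¹ * (wd U4 * (g * y * g⁻¹)) * g := by group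
      _ = g⁻¹ * (g * y * g⁻¹ * wd U4) * g := by rw [h3]
      _ = y * (g⁻¹ * wd U4 * g) := by group
  · have e : g⁻¹ * wd U4 * g = g⁻¹ * wd U4 * (g⁻¹)⁻¹ := by rw [inv_inv]
    rw [e, conj_pow, u4_pow]
    group
  · have e : g⁻¹ * wd U4 * g = g⁻¹ * wd U4 * (g⁻¹)⁻¹ := by rw [inv_inv]
    rw [e, conj_pow]
    intro h4
    apply u4_ne
    have h5 := congrArg (fun w => g * w * g⁻¹) h4
    have h6 : g * (g⁻¹ * wd U4 ^ 2 * g⁻¹⁻¹) * g⁻¹ = wd U4 ^ 2 := by group
    rw [h6] at h5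
    rw [h5]
    group

theorem card_a : Nat.card (centralizer ({gn .a} : Set Spor.He)) ∣ 161280 := by
  set C := centralizer ({gn .a} : Set Spor.He)
  have hL : L ≤ C := fun x hx => mem_centralizer_singleton_iff.2 (L_comm_a hx)
  have h1 : (L.subgroupOf C).index ∣ 2 := by
    by_cases hall : ∀ c : C, c ∈ L.subgroupOf C
    · have : L.subgroupOf C = ⊤ := by rw [eq_top_iff]; exact fun c _ => hall c
      rw [this, Subgroup.index_top]
      exact one_dvd _
    · push Not at hall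
      obtain ⟨c, hc⟩ := hall
      have : (L.subgroupOf C).index = 2 := by
        rw [Subgroup.index_eq_two_iff]
        refine ⟨c, fun b => ?_⟩
        by_cases hb : b ∈ L.subgroupOf C
        · exact Or.inr ⟨hb, fun h => hc (((L.subgroupOf C).mul_mem_cancel_left hb).1 h)⟩
        · refine Or.inl ⟨?_, hb⟩
          rw [mem_subgroupOf] at hb hc ⊢
          rcases two (mem_centralizer_singleton_iff.1 b.2) (mem_centralizer_singleton_iff.1 c.2) with h | h | h
          · exact absurd h hb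
          · exact absurd h hc
          · exact h
      rw [this]
  have h2 := Subgroup.card_mul_index (L.subgroupOf C)
  rw [Nat.card_congr (subgroupOfEquivOfLe hL).toEquiv, card_L] at h2
  rw [← h2]
  exact Nat.mul_dvd_mul_left 80640 h1

theorem two_cases {t : Spor.He} (ht : orderOf t = 2) :
    (∃ g : Spor.He, g * wd T1 * g⁻¹ = t) ∨ ∃ g : Spor.He, g * gn .a * g⁻¹ = t := by
  have htt : t * t = 1 := by rw [← pow_two, ← ht, pow_orderOf_eq_one]
  have ht1 : t ≠ 1 := by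
    intro h
    rw [h, orderOf_one] at ht
    omega
  rcases Cfsg.Agent.KFacts.He.Classes.two_classes_ad htt ht1 with ⟨g, hg⟩ | ⟨g, hg⟩
  · left
    refine ⟨g * (wd gw)⁻¹, ?_⟩
    rw [← t1_conj, ← hg]
    change _ = g * gn .d * g⁻¹
    group
  · exact Or.inr ⟨g, hg⟩

theorem alt {y : Spor.He} (hy : orderOf y = 7) : Nat.card (centralizer ({y} : Set Spor.He)) ≤ 196 ∨
    (343 ∣ Nat.card (centralizer ({y} : Set Spor.He)) ∧ Nat.card (centralizer ({y} : Set Spor.He)) ≤ 2058) ∨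
    (3 ∣ Nat.card (centralizer ({y} : Set Spor.He)) ∧ Nat.card (centralizer ({y} : Set Spor.He)) ≤ 1176 ∧
      ∃ u : Spor.He, Commute u y ∧ u ^ 4 = 1 ∧ u ^ 2 ≠ 1) := by
  have h7 : Fact (Nat.Prime 7) := ⟨by norm_num⟩
  rcases HeEl.seven hy with he | ⟨g, hg⟩
  swap
  · rw [Heis.card_cent_eq hg]
    exact Or.inr (Or.inl ⟨HeEl.dvdC, cardC⟩)
  have h2 : Fact (Nat.Prime 2) := ⟨Nat.prime_two⟩
  obtain ⟨t, ht⟩ := exists_prime_orderOf_dvd_card' 2 he
  have hto : orderOf (t : Spor.He) = 2 := by rw [Subgroup.orderOf_coe, ht]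
  have htx : (t : Spor.He) * y = y * t := mem_centralizer_singleton_iff.1 t.2
  have key : ∀ (r g : Spor.He), g * r * g⁻¹ = t →
      (g⁻¹ * y * g⁻¹⁻¹) * r = r * (g⁻¹ * y * g⁻¹⁻¹) ∧ orderOf (g⁻¹ * y * g⁻¹⁻¹) = 7 := by
    intro r g hg
    refine ⟨?_, by rw [orderOf_conj', hy]⟩
    have h3 := comm_conj (u := g⁻¹) htx.symm
    have e : g⁻¹ * (t : Spor.He) * g⁻¹⁻¹ = r := by rw [← hg]; group
    rw [e] at h3
    exact h3
  rcases two_cases hto with ⟨g, hg⟩ | ⟨g, hg⟩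
  · left
    obtain ⟨h3, h4⟩ := key _ _ hg
    obtain ⟨c, hc⟩ := CpAutON.Gen.conj_into (G := ↥(centralizer ({wd T1} : Set Spor.He))) (p := 7)
      (by rw [card_t1]; norm_num)
      (x := ⟨_, mem_centralizer_singleton_iff.2 h3⟩) (y := ⟨x1, mem_centralizer_singleton_iff.2 x1_comm⟩)
      (by rw [← Subgroup.orderOf_coe]; exact h4) (by rw [← Subgroup.orderOf_coe]; exact order1)
    obtain ⟨n, hn⟩ := mem_zpowers_iff.1 hc
    have hn' : x1 ^ n = (c : Spor.He) * (g⁻¹ * y * g⁻¹⁻¹) * (c : Spor.He)⁻¹ := congrArg Subtype.val hn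
    refine le_trans (card_cent_le hy order1 (u := (c : Spor.He) * g⁻¹) ?_) card1
    have e : (c : Spor.He) * g⁻¹ * y * ((c : Spor.He) * g⁻¹)⁻¹ = x1 ^ n := by rw [hn']; group
    rw [e]
    exact zpow_mem (mem_zpowers x1) n
  · right; right
    obtain ⟨h3, h4⟩ := key _ _ hg
    have hxL := mem_L_of_order (by rw [← h4, pow_orderOf_eq_one]) h3
    obtain ⟨c, hc⟩ := CpAutON.Gen.conj_into (G := L) (p := 7) (by rw [card_L]; norm_num)
      (x := ⟨_, hxL⟩) (y := ⟨x0, x0_mem⟩) (by rw [← Subgroup.orderOf_coe]; exact h4)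
      (by rw [← Subgroup.orderOf_coe]; exact order0)
    obtain ⟨n, hn⟩ := mem_zpowers_iff.1 hc
    have hn' : x0 ^ n = (c : Spor.He) * (g⁻¹ * y * g⁻¹⁻¹) * (c : Spor.He)⁻¹ := congrArg Subtype.val hn
    refine alt3 (g := (c : Spor.He) * g⁻¹) ?_
    have e : (c : Spor.He) * g⁻¹ * y * ((c : Spor.He) * g⁻¹)⁻¹ = x0 ^ n := by rw [hn']; group
    refine zpowers_eq ?_ order0 ?_
    · rw [orderOf_conj', hy]
    · rw [e]
      exact zpow_mem (mem_zpowers x0) n

theorem three_le {y : Spor.He} (hy : orderOf y = 3) : Nat.card (centralizer ({y} : Set Spor.He)) ≤ 7560 := by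
  rcases HeEl.three hy with h | ⟨-, h⟩
  · exact h.trans (by norm_num)
  · exact h

theorem hf : HF Spor.He where
  card := card_he
  two t ht := by
    rcases two_cases ht with ⟨g, rfl⟩ | ⟨g, rfl⟩
    · rw [card_cent_conj, card_t1]; exact Or.inr dvd_rfl
    · rw [card_cent_conj]; exact Or.inl card_a
  three _ hy := three_le hy
  five _ hy := Cfsg.Agent.H736.S4095.He.five hy
  ff _ _ hb hy := HeEl.five hb hy
  seven _ hy := alt hy
  small := ⟨x1, order1, card1⟩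

end Cfsg.Agent.H757.S8.He
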