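import Cfsg.Agent.H757.S8.HeStr

/-!
# S4908, FROB for `He`: nonabelian minimal normal subgroups (helper757)
-/

set_option autoImplicit false

namespace Cfsg.Agent.H757.S8.He

open Subgroup Cfsg Cfsg.Agent.OrdDiv

section Gen

variable {H : Type*} [Group H] [Finite H]

omit [Finite H] in
theorem norm_card (S : Subgroup H) : ∃ r, r ∣ Nat.card (MulAut S) ∧
    Nat.card (normalizer (S : Set H)) = Nat.card (centralizer (S : Set H)) * r := by
  refine ⟨Nat.card S.normalizerMonoidHom.range, Subgroup.card_subgroup_dvd_card _, ?_⟩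
  have h1 := Subgroup.card_mul_index S.normalizerMonoidHom.ker
  rw [Subgroup.index_ker, normalizerMonoidHom_ker,
    Nat.card_congr (subgroupOfEquivOfLe (centralizer_le_normalizer (S : Set H))).toEquiv] at h1
  exact h1.symm

omit [Finite H] in
theorem dvd_of_commute {A C K : Subgroup H} (hA : A ≤ K) (hC : C ≤ K) (hc : ∀ a ∈ A, ∀ c ∈ C, a * c = c * a)
    (hd : ∀ x ∈ A, x ∈ C → x = 1) : Nat.card A * Nat.card C ∣ Nat.card K := by
  have hcm : ∀ (a : A) (c : C), Commute (inclusion hA a) (inclusion hC c) := fun a c =>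
    Subtype.ext (hc a a.2 c c.2)
  let φ : A × C →* K := MonoidHom.noncommCoprod (inclusion hA) (inclusion hC) hcm
  have hinj : Function.Injective φ := by
    rw [injective_iff_map_eq_one]
    rintro ⟨a, c⟩ h
    have h1 : (a : H) * (c : H) = 1 := congrArg Subtype.val h
    have h2 : (a : H) = 1 := hd a a.2 (by
      rw [eq_inv_of_mul_eq_one_left h1]
      exact C.inv_mem c.2)
    have h3 : (c : H) = 1 := by rw [h2, one_mul] at h1; exact h1
    exact Prod.ext (Subtype.ext h2) (Subtype.ext h3)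
  have := Subgroup.card_dvd_of_injective φ hinj
  rwa [Nat.card_prod] at this

end Gen

section Sub

variable {X : Type} [Group X] [Finite X] {T : Subgroup X} {S : Subgroup T}

omit [Finite X] in
theorem cz (hS : ∀ z ∈ S, (∀ t ∈ S, Commute z t) → z = 1) {y : T} (hy : y ∈ centralizer (S : Set T)) :
    Nat.card S * orderOf (y : X) ∣ Nat.card (centralizer ({(y : X)} : Set X)) := by
  have hc : ∀ s ∈ S, s * y = y * s := fun s hs => (mem_centralizer_iff.1 hy) s hs
  have hcX : ∀ a ∈ S.map T.subtype, a * (y : X) = y * a := by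
    rintro _ ⟨s, hs, rfl⟩
    exact congrArg Subtype.val (hc s hs)
  have h := dvd_of_commute (A := S.map T.subtype) (C := zpowers (y : X)) (K := centralizer ({(y : X)} : Set X))
    (fun a ha => mem_centralizer_singleton_iff.2 (hcX a ha))
    (by rw [zpowers_le]; exact mem_centralizer_singleton_iff.2 rfl)
    (by
      rintro a ha _ ⟨k, rfl⟩
      exact ((show Commute a (y : X) from hcX a ha).zpow_right k).eq)
    (by
      rintro _ ⟨s, hs, rfl⟩ ⟨k, hk⟩
      have h1 : y ^ k = s := Subtype.ext (by rw [coe_zpow]; exact hk)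
      have h2 := hS s hs (fun t ht => by
        rw [← h1]
        exact ((show Commute t y from hc t ht).zpow_right k).symm)
      rw [h2, map_one])
  rwa [Subgroup.card_map_of_injective T.subtype_injective, Nat.card_zpowers] at h

omit [Finite X] in
theorem cs (hS : ∀ z ∈ S, (∀ t ∈ S, Commute z t) → z = 1) {y : T} (hy : y ∈ S) :
    Nat.card (centralizer (S : Set T)) * orderOf (y : X) ∣ Nat.card (centralizer ({(y : X)} : Set X)) := by
  have hc : ∀ z ∈ centralizer (S : Set T), ∀ s ∈ S, z * s = s * z := fun z hz s hs => (mem_centralizer_iff.1 hz s hs).symm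
  have hcX : ∀ a ∈ (centralizer (S : Set T)).map T.subtype, a * (y : X) = y * a := by
    rintro _ ⟨z, hz, rfl⟩
    exact congrArg Subtype.val (hc z hz y hy)
  have h := dvd_of_commute (A := (centralizer (S : Set T)).map T.subtype) (C := zpowers (y : X))
    (K := centralizer ({(y : X)} : Set X))
    (fun a ha => mem_centralizer_singleton_iff.2 (hcX a ha))
    (by rw [zpowers_le]; exact mem_centralizer_singleton_iff.2 rfl)
    (by
      rintro a ha _ ⟨k, rfl⟩
      exact ((show Commute a (y : X) from hcX a ha).zpow_right k).eq)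
    (by
      rintro _ ⟨z, hz, rfl⟩ ⟨k, hk⟩
      have h1 : y ^ k = z := Subtype.ext (by rw [coe_zpow]; exact hk)
      have h2 := hS z (by rw [← h1]; exact zpow_mem hy k) (fun t ht => hc z hz t ht)
      rw [h2, map_one])
  rwa [Subgroup.card_map_of_injective T.subtype_injective, Nat.card_zpowers] at h

theorem exists_in {p : ℕ} [Fact p.Prime] {K : Subgroup T} (h : p ∣ Nat.card K) : ∃ y ∈ K, orderOf (y : X) = p := by
  obtain ⟨y, hy⟩ := exists_prime_orderOf_dvd_card' p h
  exact ⟨y, y.2, by rw [Subgroup.orderOf_coe, Subgroup.orderOf_coe, hy]⟩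

end Sub

section Min

open Cfsg.Agent.Lib.MinNormal Cfsg.Agent.Lib.MinNormalNonabelian

variable {H : Type*} [Group H] [Finite H] {M : Subgroup H} [M.Normal] (hind : sSupIndep (minSet M))

include hind

omit [Finite H] [M.Normal] in
theorem other_le {S S' : Subgroup H} (hS : S ∈ minSet M) (hS' : S' ∈ minSet M) (hne : S' ≠ S) :
    S' ≤ centralizer (S : Set H) := by
  intro y hy
  rw [mem_centralizer_iff]
  intro s hs
  exact commute_of_mem hind (fun S hS => hS.2.2.1) (fun S hS => hS.1) hS hS' hne.symm hs hy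

omit [Finite H] in
theorem conj_le {S : Subgroup H} (hS : S ∈ minSet M) {a : H} (ha : a ∉ normalizer (S : Set H)) :
    S.map (MulAut.conj a).toMonoidHom ≤ centralizer (S : Set H) :=
  other_le hind hS (map_conj_mem_minSet hS a) fun h => ha (mem_normalizer_iff_map_conj_eq.2 h)

omit [Finite H] in
theorem dvd_cent {S : Subgroup H} (hS : S ∈ minSet M) {a : H} (ha : a ∉ normalizer (S : Set H)) :
    Nat.card S ∣ Nat.card (centralizer (S : Set H)) := by
  have h := Subgroup.card_dvd_of_le (conj_le hind hS ha)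
  rwa [Subgroup.card_map_of_injective (MulAut.conj a).injective] at h

omit [Finite H] in
theorem norm_top {S : Subgroup H} (hS : S ∈ minSet M) (hZ : ¬ Nat.card S ∣ Nat.card (centralizer (S : Set H))) :
    normalizer (S : Set H) = ⊤ := by
  rw [eq_top_iff]
  intro a _
  by_contra ha
  exact hZ (dvd_cent hind hS ha)

theorem idx2 {S : Subgroup H} (hS : S ∈ minSet M)
    (hZ : Nat.card (centralizer (S : Set H)) < 2 * Nat.card S) : (normalizer (S : Set H)).index ≤ 2 := by
  by_cases hall : ∀ c : H, c ∈ normalizer (S : Set H)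
  · have : normalizer (S : Set H) = ⊤ := by rw [eq_top_iff]; exact fun c _ => hall c
    rw [this, Subgroup.index_top]
    norm_num
  · push Not at hall
    obtain ⟨a, ha⟩ := hall
    have key : ∀ b ∉ normalizer (S : Set H), S.map (MulAut.conj b).toMonoidHom = centralizer (S : Set H) := by
      intro b hb
      apply Subgroup.eq_of_le_of_card_ge (conj_le hind hS hb)
      obtain ⟨k, hk⟩ := dvd_cent hind hS hb
      rw [Subgroup.card_map_of_injective (MulAut.conj b).injective]
      have hk2 : k < 2 := by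
        by_contra hcon
        push Not at hcon
        have : Nat.card S * 2 ≤ Nat.card S * k := Nat.mul_le_mul_left _ hcon
        omega
      rw [hk]
      calc Nat.card S * k ≤ Nat.card S * 1 := Nat.mul_le_mul_left _ (by omega)
        _ = Nat.card S := mul_one _
    have : (normalizer (S : Set H)).index = 2 := by
      rw [Subgroup.index_eq_two_iff]
      refine ⟨a, fun b => ?_⟩
      by_cases hb : b ∈ normalizer (S : Set H)
      · exact Or.inr ⟨hb, fun h => ha (((normalizer (S : Set H)).mul_mem_cancel_left hb).1 h)⟩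
      · refine Or.inl ⟨?_, hb⟩
        have hb' : b⁻¹ ∉ normalizer (S : Set H) := fun h => hb (by
          have := inv_mem h
          rwa [inv_inv] at this)
        rw [mem_normalizer_iff_map_conj_eq]
        change S.map (MulAut.conj (b * a)).toMonoidHom = S
        rw [← map_conj_map_conj, key a ha, ← key b⁻¹ hb', map_conj_map_conj, mul_inv_cancel, map_conj_one]
    rw [this]

end Min

theorem sq_dvd_of {p z r i : ℕ} (hp : p.Prime) (h3 : 3 ≤ p) (hz : ¬ p ∣ z) (hi : i ≤ 2) (hi0 : i ≠ 0)
    (h : p ^ 2 ∣ z * r * i) : p ^ 2 ∣ r := by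
  have c1 : Nat.Coprime (p ^ 2) z := Nat.Coprime.pow_left 2 ((Nat.Prime.coprime_iff_not_dvd hp).2 hz)
  have c2 : Nat.Coprime (p ^ 2) i := Nat.Coprime.pow_left 2 ((Nat.Prime.coprime_iff_not_dvd hp).2 fun hd => by
    have := Nat.le_of_dvd (by omega) hd
    omega)
  exact c1.dvd_of_dvd_mul_left (c2.dvd_of_dvd_mul_right h)

section Main

open Cfsg.Agent.Lib.MinNormal Cfsg.Agent.Lib.MinNormalNonabelian

variable {X : Type} [Group X] [Finite X]

/-- centralizers of elements of prime order -/
theorem cent_big (F : HF X) {o : ℕ} (ho : 25 ∣ o) (ho2 : 7560 < o) {q : ℕ} (hq : q.Prime) (hq17 : q ≠ 17) {y : X}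
    (hy : orderOf y = q) : ¬ o * q ∣ Nat.card (centralizer ({y} : Set X)) := by
  intro h
  have hle := Nat.le_of_dvd Nat.card_pos h
  have hqX : q ∣ 4030387200 := by
    rw [← F.card, ← hy]; exact orderOf_dvd_natCard y
  have hle2 : o ≤ Nat.card (centralizer ({y} : Set X)) := (Nat.le_mul_of_pos_right o hq.pos).trans hle
  rcases prime_cases hq hqX with rfl | rfl | rfl | rfl | rfl
  · have h25 := (ho.trans (Nat.dvd_mul_right o 2)).trans h
    rcases F.two y hy with h1 | h1 <;> have h2 := h25.trans h1 <;> norm_num at h2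
  · have := F.three y hy
    omega
  · have := F.five y hy
    omega
  · have h8 : Nat.card (centralizer ({y} : Set X)) ≤ 2058 := by
      rcases F.seven y hy with h | ⟨-, h⟩ | ⟨-, h, -⟩ <;> omega
    omega
  · exact hq17 rfl

theorem cent_bot (F : HF X) {T : Subgroup X} (h17 : ¬ 17 ∣ Nat.card T) {S : Subgroup T}
    (hS : ∀ z ∈ S, (∀ t ∈ S, Commute z t) → z = 1) (ho : 25 ∣ Nat.card S) (ho2 : 7560 < Nat.card S) :
    Nat.card (centralizer (S : Set T)) = 1 := by
  by_contra hne
  obtain ⟨q, hq, hqd⟩ := Nat.exists_prime_and_dvd hne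
  have := Fact.mk hq
  obtain ⟨y, hyZ, hy⟩ := exists_in hqd
  have h1 := cz hS hyZ
  rw [hy] at h1
  refine cent_big F ho ho2 hq ?_ hy h1
  rintro rfl
  exact h17 (hqd.trans (Subgroup.card_subgroup_dvd_card _))

omit [Finite X] in
theorem dvd_T (F : HF X) {T : Subgroup X} (h17 : ¬ 17 ∣ Nat.card T) : Nat.card T ∣ 237081600 := by
  have h1 : Nat.card T ∣ 17 * 237081600 := by
    have := Subgroup.card_subgroup_dvd_card T
    rwa [F.card] at this
  have c17 : Nat.Coprime (Nat.card T) 17 := ((Nat.Prime.coprime_iff_not_dvd (by norm_num)).2 h17).symm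
  exact c17.dvd_of_dvd_mul_left h1

set_option maxHeartbeats 1000000 in
/-- **nonabelian minimal normal subgroups** -/
theorem nonab (OT : OrderTable.{0}) (hKn : Kn) (F : HF X) {T : Subgroup X} (h17 : ¬ 17 ∣ Nat.card T) (M : Subgroup T)
    [M.Normal] (hmin : ∀ K : Subgroup T, K.Normal → K ≤ M → K = ⊥ ∨ K = M) (hna : ¬ ∀ x ∈ M, ∀ y ∈ M, Commute x y) :
    (49 ∣ Nat.card T → Nat.card T ≤ 235200) ∧ (25 ∣ Nat.card T → ¬ 49 ∣ Nat.card T →
      Nat.card T ≤ 14400 ∨ (7 ∣ Nat.card T ∧ Nat.card T ≤ 1209600)) := by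
  have f5 : Fact (Nat.Prime 5) := ⟨Nat.prime_five⟩
  have f7 : Fact (Nat.Prime 7) := ⟨by norm_num⟩
  obtain ⟨⟨S, hSm⟩, hind, hsup, hsimple, hcent, -⟩ := nonabelian_structure M hmin hna
  have hS1 := hsimple S hSm
  have hc := hcent S hSm
  have hnaS : ¬ ∀ a b : S, a * b = b * a := by
    intro hab
    apply hSm.2.1
    rw [eq_bot_iff]
    intro s hs
    rw [mem_bot]
    exact hc s hs fun t ht => congrArg Subtype.val (hab ⟨s, hs⟩ ⟨t, ht⟩)
  have hST : Nat.card S ∣ Nat.card T := Subgroup.card_subgroup_dvd_card S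
  obtain ⟨p, hp, ho, hA⟩ := aut_dvd OT hKn hnaS (hST.trans (dvd_T F h17))
  obtain ⟨r, hr, hN⟩ := norm_card S
  have hrA : r ∣ p.2 := hr.trans hA
  have hT : Nat.card T = Nat.card (centralizer (S : Set T)) * r * (normalizer (S : Set T)).index := by
    rw [← hN]; exact (Subgroup.card_mul_index _).symm
  have e5 : 5 ∣ Nat.card S → Nat.card (centralizer (S : Set T)) ≤ 60 ∧ ¬ 7 ∣ Nat.card (centralizer (S : Set T)) := by
    intro h
    obtain ⟨y, hyS, hy⟩ := exists_in h
    constructor
    · have h1 := cs hc hyS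
      rw [hy] at h1
      have h2 := (Nat.le_of_dvd Nat.card_pos h1).trans (F.five _ hy)
      omega
    · intro h7
      obtain ⟨z, hzZ, hz⟩ := exists_in h7
      refine F.ff _ _ hy hz ?_
      exact (congrArg Subtype.val (mem_centralizer_iff.1 hzZ y hyS)).symm
  have c7 : ∀ y : X, orderOf y = 7 → Nat.card (centralizer ({y} : Set X)) ≤ 2058 := by
    intro y hy
    rcases F.seven y hy with h | ⟨-, h⟩ | ⟨-, h, -⟩ <;> omega
  have e7 : 7 ∣ Nat.card S → Nat.card (centralizer (S : Set T)) ≤ 294 := by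
    intro h
    obtain ⟨y, hyS, hy⟩ := exists_in h
    have h1 := cs hc hyS
    rw [hy] at h1
    have h2 := (Nat.le_of_dvd Nat.card_pos h1).trans (c7 _ hy)
    omega
  have g5 : 5 ∣ Nat.card (centralizer (S : Set T)) → Nat.card S ≤ 60 := by
    intro h
    obtain ⟨y, hyS, hy⟩ := exists_in h
    have h1 := cz hc hyS
    rw [hy] at h1
    have h2 := (Nat.le_of_dvd Nat.card_pos h1).trans (F.five _ hy)
    omega
  have g7 : 7 ∣ Nat.card (centralizer (S : Set T)) → Nat.card S ≤ 294 := by
    intro h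
    obtain ⟨y, hyS, hy⟩ := exists_in h
    have h1 := cz hc hyS
    rw [hy] at h1
    have h2 := (Nat.le_of_dvd Nat.card_pos h1).trans (c7 _ hy)
    omega
  have hi := idx2 hind hSm
  have hi1 : ¬ Nat.card S ∣ Nat.card (centralizer (S : Set T)) → (normalizer (S : Set T)).index = 1 := fun h => by
    rw [norm_top hind hSm h, Subgroup.index_top]
  have hi0 : (normalizer (S : Set T)).index ≠ 0 := Subgroup.index_ne_zero_of_finite
  have hprod : Nat.card S * Nat.card (centralizer (S : Set T)) ∣ Nat.card T := by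
    have h := dvd_of_commute (A := S) (C := centralizer (S : Set T)) (K := ⊤) le_top le_top
      (fun a ha c hcc => mem_centralizer_iff.1 hcc a ha)
      (fun x hx hxc => hc x hx fun t ht => (mem_centralizer_iff.1 hxc t ht).symm)
    rwa [Subgroup.card_top] at h
  have hbot := cent_bot F h17 hc
  have hzpos : 0 < Nat.card (centralizer (S : Set T)) := Nat.card_pos
  generalize Nat.card (centralizer (S : Set T)) = z at *
  generalize (normalizer (S : Set T)).index = i at *
  generalize Nat.card T = t at *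
  have key49 : ∀ A o : ℕ, p = (o, A) → 5 ∣ o → ¬ 49 ∣ A → 49 ∣ t → False := by
    rintro A o rfl h5 hA' ht
    have ho' : Nat.card S = o := ho
    rw [← ho'] at h5
    obtain ⟨h1, h2⟩ := e5 h5
    have h3 : 5 ≤ Nat.card S := Nat.le_of_dvd Nat.card_pos h5
    have h60 : 60 ≤ Nat.card S := by
      rw [ho']
      simp only [tbl, List.mem_cons, List.not_mem_nil, or_false, Prod.mk.injEq] at hp
      omega
    have h4 := hi (by omega)
    rw [hT] at ht
    exact hA' ((sq_dvd_of (p := 7) (by norm_num) (by norm_num) h2 h4 hi0 ht).trans hrA)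
  have key49' : ∀ A o : ℕ, p = (o, A) → 7 ∣ o → 294 < o → ¬ 49 ∣ A → 49 ∣ t → False := by
    rintro A o rfl h7 h294 hA' ht
    have ho : Nat.card S = o := ho
    have h1 : ¬ 7 ∣ z := fun h => by
      have := g7 h
      omega
    have h2 := hi1 (fun h => h1 ((h7.trans (ho ▸ dvd_rfl)).trans h))
    rw [hT, h2] at ht
    exact hA' ((sq_dvd_of (p := 7) (i := 1) (by norm_num) (by norm_num) h1 (by norm_num) (by norm_num) ht).trans hrA)
  have key25 : ¬ 5 ∣ z → 25 ∣ t → ¬ 49 ∣ t → i = 1 ∧ 25 ∣ p.2 := by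
    intro h5 h25 h49
    have h1 : i = 1 := by
      apply hi1
      intro hd
      by_cases h : 5 ∣ Nat.card S
      · exact h5 (h.trans hd)
      · have h7 : 7 ∣ Nat.card S := by
          rw [ho] at h ⊢
          simp only [tbl, List.mem_cons, List.not_mem_nil, or_false] at hp
          rcases hp with rfl | rfl | rfl | rfl | rfl | rfl | rfl | rfl | rfl <;> omega
        exact h49 ((Nat.mul_dvd_mul h7 (h7.trans hd)).trans hprod)
    refine ⟨h1, ?_⟩
    rw [hT, h1] at h25
    exact (sq_dvd_of (p := 5) (i := 1) (by norm_num) (by norm_num) h5 (by norm_num) (by norm_num) h25).trans hrA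
  simp only [tbl, List.mem_cons, List.not_mem_nil, or_false] at hp
  constructor
  · intro h49
    rcases hp with rfl | rfl | rfl | rfl | rfl | rfl | rfl | rfl | rfl
    · exact (key49 _ _ rfl (by norm_num) (by norm_num) h49).elim
    · have h1 := e7 (by rw [ho]; norm_num)
      have h2 := hi (by rw [ho]; simp only; omega)
      have h3 : r ≤ 336 := Nat.le_of_dvd (by norm_num) hrA
      rw [hT]
      calc z * r * i ≤ 294 * 336 * 2 := Nat.mul_le_mul (Nat.mul_le_mul h1 h3) h2
        _ ≤ 235200 := by norm_num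
    · exact (key49 _ _ rfl (by norm_num) (by norm_num) h49).elim
    · exact (key49' _ _ rfl (by norm_num) (by norm_num) (by norm_num) h49).elim
    · exact (key49 _ _ rfl (by norm_num) (by norm_num) h49).elim
    · exact (key49' _ _ rfl (by norm_num) (by norm_num) (by norm_num) h49).elim
    · exact (key49 _ _ rfl (by norm_num) (by norm_num) h49).elim
    · have h1 := hbot (by rw [ho]; norm_num) (by rw [ho]; norm_num)
      have h2 := hi1 (by rw [h1, ho]; norm_num)
      have h3 : r ≤ 235200 := Nat.le_of_dvd (by norm_num) hrA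
      rw [hT, h1, h2]
      omega
    · exact (key49 _ _ rfl (by norm_num) (by norm_num) h49).elim
  · intro h25 h49
    by_cases hz5 : 5 ∣ z
    · left
      have h60 := g5 hz5
      have hp' : p = (60, 120) := by
        rw [ho] at h60
        rcases hp with rfl | rfl | rfl | rfl | rfl | rfl | rfl | rfl | rfl <;> first | rfl | (norm_num at h60)
      subst hp'
      have h1 := (e5 (by rw [ho]; norm_num)).1
      have h2 := hi (by rw [ho]; simp only; omega)
      have h3 : r ≤ 120 := Nat.le_of_dvd (by norm_num) hrA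
      rw [hT]
      calc z * r * i ≤ 60 * 120 * 2 := Nat.mul_le_mul (Nat.mul_le_mul h1 h3) h2
        _ ≤ 14400 := by norm_num
    · right
      obtain ⟨h1, h2⟩ := key25 hz5 h25 h49
      rcases hp with rfl | rfl | rfl | rfl | rfl | rfl | rfl | rfl | rfl
      all_goals first | (exfalso; norm_num at h2; done) | skip
      · exact (h49 ((show (49 : ℕ) ∣ Nat.card S by rw [ho]; norm_num).trans hST)).elim
      · have h3 := hbot (by rw [ho]; norm_num) (by rw [ho]; norm_num)
        have h4 : r ≤ 1209600 := Nat.le_of_dvd (by norm_num) hrA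
        refine ⟨(show (7 : ℕ) ∣ Nat.card S by rw [ho]; norm_num).trans hST, ?_⟩
        rw [hT, h1, h3]
        omega

/-- the two cases -/
theorem cases_min (F : HF X) {T : Subgroup X} {q : ℕ} (hq : q = 5 ∨ q = 7) (hqT : q ^ 2 ∣ Nat.card T)
    (h17 : ¬ 17 ∣ Nat.card T) : Nat.card T ≤ 196560 ∨ ∃ M : Subgroup T, M.Normal ∧
      (∀ K : Subgroup T, K.Normal → K ≤ M → K = ⊥ ∨ K = M) ∧ ¬ ∀ x ∈ M, ∀ y ∈ M, Commute x y := by
  have hnt : Nontrivial T := by
    rw [← Finite.one_lt_card_iff_nontrivial]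
    exact lt_of_lt_of_le (by rcases hq with rfl | rfl <;> norm_num) (Nat.le_of_dvd Nat.card_pos hqT)
  obtain ⟨M, hMn, hM, hmin⟩ := Cfsg.Agent.Lib.SubnormalJoin.exists_minimal_normal T
  by_cases hab : ∀ x ∈ M, ∀ y ∈ M, Commute x y
  swap
  · exact Or.inr ⟨M, hMn, hmin, hab⟩
  left
  obtain ⟨p, hp, hpM, hexp⟩ := abelian_structure M hM hmin hab
  have hM1 : M.map T.subtype ≠ ⊥ := fun h => hM ((Subgroup.map_eq_bot_iff_of_injective M T.subtype_injective).1 h)
  have hTN : T ≤ normalizer ((M.map T.subtype : Subgroup X) : Set X) := by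
    intro t ht
    rw [mem_normalizer_iff]
    have key : ∀ t : T, ∀ m ∈ M.map T.subtype, (t : X) * m * (t : X)⁻¹ ∈ M.map T.subtype := by
      rintro t _ ⟨m, hm, rfl⟩
      exact ⟨t * m * t⁻¹, hMn.conj_mem m hm t, rfl⟩
    intro m
    constructor
    · exact key ⟨t, ht⟩ m
    · intro hm
      have := key (⟨t, ht⟩ : T)⁻¹ _ hm
      have e : (((⟨t, ht⟩ : T)⁻¹ : T) : X) * (t * m * t⁻¹) * ((((⟨t, ht⟩ : T)⁻¹ : T) : X))⁻¹ = m := by
        rw [coe_inv]
        group
      rwa [e] at this
  refine ab_bound F hTN ?_ hM1 hp ?_ ?_ hq hqT h17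
  · rintro _ ⟨m, -, rfl⟩
    exact m.2
  · rintro _ ⟨m, hm, rfl⟩
    exact congrArg Subtype.val (hexp m hm)
  · rintro _ ⟨x, hx, rfl⟩ _ ⟨y, hy, rfl⟩
    exact congrArg Subtype.val (hab x hx y hy).eq

theorem str49 (OT : OrderTable.{0}) (hKn : Kn) (F : HF X) {T : Subgroup X} (h17 : ¬ 17 ∣ Nat.card T)
    (h49 : 49 ∣ Nat.card T) : Nat.card T ≤ 235200 := by
  rcases cases_min F (q := 7) (Or.inr rfl) h49 h17 with h | ⟨M, hMn, hmin, hab⟩
  · omega
  · exact (nonab OT hKn F h17 M hmin hab).1 h49

theorem str25 (OT : OrderTable.{0}) (hKn : Kn) (F : HF X) {T : Subgroup X} (h17 : ¬ 17 ∣ Nat.card T)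
    (h25 : 25 ∣ Nat.card T) (h49 : ¬ 49 ∣ Nat.card T) :
    Nat.card T ≤ 196560 ∨ (7 ∣ Nat.card T ∧ Nat.card T ≤ 1209600) := by
  rcases cases_min F (q := 5) (Or.inl rfl) h25 h17 with h | ⟨M, hMn, hmin, hab⟩
  · exact Or.inl h
  · rcases (nonab OT hKn F h17 M hmin hab).2 h25 h49 with h | h
    · left; omega
    · exact Or.inr h

end Main

end Cfsg.Agent.H757.S8.He
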