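import Cfsg.Agent.H757.S8.HeF
import Cfsg.Agent.H757.S8.HeAut
import Cfsg.Agent.H757.S8.Tr

/-!
# S4908, FROB for `He`: abelian minimal normal subgroups (helper757)
-/

set_option autoImplicit false

namespace Cfsg.Agent.H757.S8.He

open Subgroup

variable {X : Type} [Group X] [Finite X]

/-- a `q`-group acting without common fixed points -/
theorem dvd_sub {q : ℕ} [Fact q.Prime] (B D : Subgroup X) (hB : IsPGroup q B) (hBD : B ≤ normalizer (D : Set X))
    (h : ∀ m ∈ D, (∀ b ∈ B, b * m = m * b) → m = 1) : q ∣ Nat.card D - 1 := by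
  let _ := act B D hBD
  have h1 := hB.card_modEq_card_fixedPoints {m : X // m ∈ D ∧ m ≠ 1}
  rw [card_ne_one] at h1
  have h2 : Nat.card (MulAction.fixedPoints B {m : X // m ∈ D ∧ m ≠ 1}) = 0 := by
    rw [Nat.card_eq_zero]
    left
    refine ⟨fun m => m.1.2.2 (h m.1.1 m.1.2.1 fun b hb => ?_)⟩
    have h3 := m.2 ⟨b, hb⟩
    have h4 : b * m.1.1 * b⁻¹ = m.1.1 := congrArg Subtype.val h3
    exact mul_inv_eq_iff_eq_mul.1 h4
  rw [h2] at h1
  exact (Nat.modEq_zero_iff_dvd).1 h1

set_option maxHeartbeats 400000 in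
/-- no normal 2-subgroup -/
theorem two_case (F : HF X) {q : ℕ} (hq : q = 5 ∨ q = 7) {B M : Subgroup X} (hB : Nat.card B = q ^ 2)
    (hBM : B ≤ normalizer (M : Set X)) (hM : M ≠ ⊥) (hM2 : ∀ m ∈ M, m ^ 2 = 1) : False := by
  have hqp : q.Prime := by rcases hq with rfl | rfl <;> norm_num
  have := Fact.mk hqp
  have : Fact (Nat.Prime 2) := ⟨Nat.prime_two⟩
  have hcomm : ∀ a ∈ B, ∀ b ∈ B, a * b = b * a := fun a ha b hb => by
    have h1 := (IsPGroup.isMulCommutative_of_card_eq_prime_sq hB).is_comm.comm ⟨a, ha⟩ ⟨b, hb⟩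
    exact congrArg Subtype.val h1
  have hinv : ∀ m ∈ M, m ≠ 1 → ¬ q ^ 2 ∣ Nat.card (centralizer ({m} : Set X)) := by
    intro m hm h1 h2
    have hm2 : orderOf m = 2 := orderOf_eq_prime (hM2 m hm) h1
    rcases F.two m hm2 with h | h <;> rcases hq with rfl | rfl <;> have h3 := h2.trans h <;> norm_num at h3
  have hfix : ∀ m ∈ M, (∀ b ∈ B, b * m = m * b) → m = 1 := by
    intro m hm hc
    by_contra h1
    apply hinv m hm h1
    rw [← hB]
    exact Subgroup.card_dvd_of_le fun b hb => mem_centralizer_singleton_iff.2 (hc b hb)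
  have hp2 : IsPGroup 2 M := fun m => ⟨1, Subtype.ext (by
    rw [pow_one, coe_pow, coe_one]
    exact hM2 m m.2)⟩
  have hpow : ∀ D : Subgroup X, D ≤ M → D ≠ ⊥ → ∃ j, j ≠ 0 ∧ j ≤ 10 ∧ Nat.card D = 2 ^ j := by
    intro D hDM hD
    obtain ⟨j, hj⟩ := (hp2.to_le hDM).exists_card_eq
    refine ⟨j, ?_, ?_, hj⟩
    · rintro rfl
      exact hD (Subgroup.card_eq_one.1 (by rw [hj, pow_zero]))
    · by_contra hcon
      have h2 : 2 ^ j ∣ 4030387200 := by
        rw [← hj, ← F.card]; exact Subgroup.card_subgroup_dvd_card D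
      have := (pow_dvd_pow 2 (show 11 ≤ j by omega)).trans h2
      norm_num at this
  obtain ⟨a, ha, ha1, m, hm, hcm, hm1⟩ : ∃ a ∈ B, a ≠ 1 ∧ ∃ m ∈ M, a * m = m * a ∧ m ≠ 1 := by
    by_contra hcon
    push Not at hcon
    have h1 := fpf_dvd B M hBM (fun a ha ha1 m hm hc => hcon a ha ha1 m hm hc)
    obtain ⟨j, hj0, hj, hjc⟩ := hpow M le_rfl hM
    rw [hB, hjc] at h1
    have hj1 : 1 ≤ j := Nat.one_le_iff_ne_zero.2 hj0
    rcases hq with rfl | rfl <;> interval_cases j <;> norm_num at h1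
  have hao : orderOf a ∣ q ^ 2 := by
    have := orderOf_dvd_natCard (⟨a, ha⟩ : B)
    rwa [Subgroup.orderOf_mk, hB] at this
  obtain ⟨k, hk2, hk⟩ := (Nat.dvd_prime_pow hqp).1 hao
  have hk0 : k ≠ 0 := by
    rintro rfl
    exact ha1 (orderOf_eq_one_iff.1 (by rw [hk, pow_zero]))
  have hy : orderOf (a ^ q ^ (k - 1)) = q := by
    rw [orderOf_pow_of_dvd (pow_ne_zero _ hqp.ne_zero) (by rw [hk]; exact pow_dvd_pow q (by omega)), hk,
      Nat.pow_div (by omega) hqp.pos, show k - (k - 1) = 1 by omega, pow_one]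
  set y := a ^ q ^ (k - 1) with hyd
  have hyB : y ∈ B := pow_mem ha _
  have hym : y * m = m * y := ((show Commute a m from hcm).pow_left _).eq
  have hBC : B ≤ centralizer ({y} : Set X) := fun b hb => mem_centralizer_singleton_iff.2 (hcomm b hb y hyB)
  set D := M ⊓ centralizer ({y} : Set X) with hDd
  have hBD : B ≤ normalizer (D : Set X) := by
    intro b hb
    exact inf_normalizer_le_normalizer_inf ⟨hBM hb, le_normalizer (hBC hb)⟩
  obtain ⟨j, hj0, hj, hjc⟩ := hpow D inf_le_left (by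
    intro h0
    apply hm1
    rw [← mem_bot, ← h0]
    exact ⟨hm, mem_centralizer_singleton_iff.2 hym.symm⟩)
  have h5 := dvd_sub B D (IsPGroup.of_card hB) hBD fun m hm => hfix m hm.1
  have hcop : Nat.Coprime (q ^ 2) (Nat.card D) := by
    rw [hjc]
    apply Nat.Coprime.pow
    rcases hq with rfl | rfl <;> norm_num
  have hdvd : q ^ 2 * Nat.card D ∣ Nat.card (centralizer ({y} : Set X)) :=
    hcop.mul_dvd_of_dvd_of_dvd (by rw [← hB]; exact Subgroup.card_dvd_of_le hBC) (Subgroup.card_dvd_of_le inf_le_right)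
  have hcpos : 0 < Nat.card (centralizer ({y} : Set X)) := Nat.card_pos
  have hj1 : 1 ≤ j := Nat.one_le_iff_ne_zero.2 hj0
  rcases hq with rfl | rfl
  · have h6 := F.five y hy
    have h7 := Nat.le_of_dvd hcpos hdvd
    have h8 : 16 ≤ Nat.card D := by
      rw [hjc] at h5 ⊢
      clear hjc
      interval_cases j <;> first | (norm_num at h5; done) | norm_num
    omega
  · have hj3 : j = 3 ∨ j = 6 ∨ j = 9 := by
      rw [hjc] at h5
      clear hjc
      interval_cases j <;> first | (norm_num at h5; done) | norm_num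
    have h8 : 8 ∣ Nat.card D := by
      rw [hjc]
      rcases hj3 with rfl | rfl | rfl <;> norm_num
    have h9 : 392 ∣ Nat.card (centralizer ({y} : Set X)) := by
      have h9 := (Nat.mul_dvd_mul_left (7 ^ 2) h8).trans hdvd
      norm_num at h9
      exact h9
    rcases F.seven y hy with h | ⟨h, h'⟩ | ⟨h, h', u, hu, hu4, hu2⟩
    · have := Nat.le_of_dvd hcpos h9
      omega
    · have h10 : 8 * 343 ∣ Nat.card (centralizer ({y} : Set X)) :=
        (by norm_num : Nat.Coprime 8 343).mul_dvd_of_dvd_of_dvd ((by norm_num : (8 : ℕ) ∣ 392).trans h9) h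
      have := Nat.le_of_dvd hcpos h10
      omega
    · have h10 : 3 * 392 ∣ Nat.card (centralizer ({y} : Set X)) :=
        (by norm_num : Nat.Coprime 3 392).mul_dvd_of_dvd_of_dvd h h9
      have h11 : Nat.card (centralizer ({y} : Set X)) = 1176 := by
        have := Nat.le_of_dvd hcpos h10
        omega
      have huy : u ∈ centralizer ({y} : Set X) := mem_centralizer_singleton_iff.2 hu.eq
      obtain ⟨g, hg⟩ := exists_conj_mem (X := centralizer ({y} : Set X)) (p := 2) (a := 3) Nat.prime_two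
        (T := D.subgroupOf (centralizer ({y} : Set X)))
        (by rw [Nat.card_congr (subgroupOfEquivOfLe (inf_le_right : D ≤ _)).toEquiv]; exact h8)
        (by rw [h11]; norm_num) (x := ⟨u, huy⟩) (k := 2) (Subtype.ext (by
          rw [coe_pow, coe_one]; exact hu4))
      have h12 := hM2 _ (show ((g * ⟨u, huy⟩ * g⁻¹ : centralizer ({y} : Set X)) : X) ∈ M from (mem_subgroupOf.1 hg).1)
      apply hu2
      have h13 : ((g : X) * u * (g : X)⁻¹) ^ 2 = 1 := h12
      rw [conj_pow] at h13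
      calc u ^ 2 = (g : X)⁻¹ * ((g : X) * u ^ 2 * (g : X)⁻¹) * g := by group
        _ = 1 := by rw [h13]; group

theorem prime_cases {p : ℕ} (hp : p.Prime) (h : p ∣ 4030387200) : p = 2 ∨ p = 3 ∨ p = 5 ∨ p = 7 ∨ p = 17 := by
  have e : (4030387200 : ℕ) = 2 ^ 10 * (3 ^ 3 * (5 ^ 2 * (7 ^ 3 * 17))) := by norm_num
  rw [e] at h
  have key : ∀ {r n : ℕ}, r.Prime → p ∣ r ^ n → p = r := fun hr h =>
    (Nat.prime_dvd_prime_iff_eq hp hr).1 (hp.dvd_of_dvd_pow h)
  rcases (Nat.Prime.dvd_mul hp).1 h with h | h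
  · exact Or.inl (key Nat.prime_two h)
  rcases (Nat.Prime.dvd_mul hp).1 h with h | h
  · exact Or.inr (Or.inl (key Nat.prime_three h))
  rcases (Nat.Prime.dvd_mul hp).1 h with h | h
  · exact Or.inr (Or.inr (Or.inl (key (by norm_num) h)))
  rcases (Nat.Prime.dvd_mul hp).1 h with h | h
  · exact Or.inr (Or.inr (Or.inr (Or.inl (key (by norm_num) h))))
  · exact Or.inr (Or.inr (Or.inr (Or.inr ((Nat.prime_dvd_prime_iff_eq hp (by norm_num)).1 h))))

/-- **abelian minimal normal subgroups** -/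
theorem ab_bound (F : HF X) {T M : Subgroup X} (hTN : T ≤ normalizer (M : Set X)) (hMT : M ≤ T) (hM : M ≠ ⊥) {p : ℕ}
    (hp : p.Prime) (hexp : ∀ m ∈ M, m ^ p = 1) (hc : ∀ x ∈ M, ∀ y ∈ M, x * y = y * x) {q : ℕ} (hq : q = 5 ∨ q = 7)
    (hqT : q ^ 2 ∣ Nat.card T) (h17 : ¬ 17 ∣ Nat.card T) : Nat.card T ≤ 196560 := by
  have := Fact.mk hp
  have hqp : q.Prime := by rcases hq with rfl | rfl <;> norm_num
  have := Fact.mk hqp
  have hpM : IsPGroup p M := fun m => ⟨1, Subtype.ext (by
    rw [pow_one, coe_pow, coe_one]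
    exact hexp m m.2)⟩
  obtain ⟨k, hk⟩ := hpM.exists_card_eq
  have hk0 : k ≠ 0 := by
    rintro rfl
    exact hM (Subgroup.card_eq_one.1 (by rw [hk, pow_zero]))
  have hpc : p ∣ Nat.card M := by
    rw [hk]; exact dvd_pow_self p hk0
  have hkX : p ^ k ∣ 4030387200 := by
    rw [← hk, ← F.card]; exact Subgroup.card_subgroup_dvd_card M
  obtain ⟨y, hy⟩ := exists_prime_orderOf_dvd_card' p hpc
  have hy' : orderOf (y : X) = p := by rw [Subgroup.orderOf_coe, hy]
  have hy1 : (y : X) ≠ 1 := by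
    intro h
    rw [h, orderOf_one] at hy'
    exact hp.one_lt.ne hy'
  have h6 := card_le_cent T M hTN y.2 hy1
  have hpp := prime_cases hp ((dvd_pow_self p hk0).trans hkX)
  rcases hpp with rfl | rfl | rfl | rfl | rfl
  · exfalso
    obtain ⟨K, hK⟩ := Sylow.exists_subgroup_card_pow_prime q hqT
    refine two_case F hq (B := K.map T.subtype) (by rw [Subgroup.card_map_of_injective T.subtype_injective, hK])
      (le_trans ?_ hTN) hM hexp
    rintro _ ⟨b, -, rfl⟩
    exact b.2
  · have hk3 : k ≤ 3 := by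
      by_contra hcon
      have := (pow_dvd_pow 3 (show 4 ≤ k by omega)).trans hkX
      norm_num at this
    have h7 : Nat.card M ≤ 27 := by
      rw [hk]; exact (Nat.pow_le_pow_right (by norm_num) hk3).trans (by norm_num)
    calc Nat.card T ≤ _ := h6
      _ ≤ 26 * 7560 := Nat.mul_le_mul (by omega) (F.three y hy')
      _ = 196560 := by norm_num
  · have hk3 : k ≤ 2 := by
      by_contra hcon
      have := (pow_dvd_pow 5 (show 3 ≤ k by omega)).trans hkX
      norm_num at this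
    have h7 : Nat.card M ≤ 25 := by
      rw [hk]; exact (Nat.pow_le_pow_right (by norm_num) hk3).trans (by norm_num)
    calc Nat.card T ≤ _ := h6
      _ ≤ 24 * 300 := Nat.mul_le_mul (by omega) (F.five y hy')
      _ ≤ 196560 := by norm_num
  · have hk3 : k ≤ 2 := by
      by_contra hcon
      obtain ⟨y0, hy0, hc0⟩ := F.small
      obtain ⟨g, hg⟩ := exists_conj_mem (p := 7) (a := 3) (by norm_num) (T := M)
        (by rw [hk]; exact pow_dvd_pow 7 (by omega)) (by rw [F.card]; norm_num) (x := y0) (k := 1)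
        (by rw [pow_one, ← hy0, pow_orderOf_eq_one])
      have h8 : Nat.card M ∣ Nat.card (centralizer ({g * y0 * g⁻¹} : Set X)) :=
        Subgroup.card_dvd_of_le fun x hx => mem_centralizer_singleton_iff.2 (hc x hx _ hg)
      rw [card_cent_cj] at h8
      have h9 := Nat.le_of_dvd Nat.card_pos h8
      have h10 : 7 ^ 3 ≤ Nat.card M := by
        rw [hk]; exact Nat.pow_le_pow_right (by norm_num) (by omega)
      omega
    have h7 : Nat.card M ≤ 49 := by
      rw [hk]; exact (Nat.pow_le_pow_right (by norm_num) hk3).trans (by norm_num)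
    have h8 : Nat.card (centralizer ({(y : X)} : Set X)) ≤ 2058 := by
      rcases F.seven y hy' with h | ⟨-, h⟩ | ⟨-, h, -⟩ <;> omega
    calc Nat.card T ≤ _ := h6
      _ ≤ 48 * 2058 := Nat.mul_le_mul (by omega) h8
      _ ≤ 196560 := by norm_num
  · exact absurd (hpc.trans (Subgroup.card_dvd_of_le hMT)) h17

end Cfsg.Agent.H757.S8.He
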