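import Cfsg.Agent.H359.CT.McLClass
import Cfsg.Agent.H35.TI.McLCent

/-!
# S4908, FROB for `McL`: the elements (helper757)

* `five` : the centralizers of the elements of order 5 have order 25 or 750;
* `eight`, `nine` : a 2-element, a 3-element with centralizer of order at most 8, 27;
* `frob` : the Frobenius group `11:5`, the elements of order 5 have centralizer of order 25.
-/

set_option autoImplicit false
set_option maxRecDepth 100000

namespace Cfsg.Agent.H757.S8.McL

open Subgroup Equiv Cfsg.Agent.SporadicA.PermTab Cfsg.Agent.H904.McLCent Cfsg.Agent.McLType.X275 Cfsg.Agent.McLType.Gens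
  Cfsg.Agent.McLType.Model Cfsg.Agent.H359.CT Cfsg.Agent.H359.CT.McL
open Cfsg.Agent.H686.Odd.McL (c card_cent_of_mem card_cent_conj order_c type_b)
open Cfsg.Agent.H35.TI (P5 card_P5 card_c card_a card_cent_noncentral)

/-- an element of order 5 normalizing the element `t11` -/
def z5 : ℕ := 0x414731011f63dc8605c0e6348850e80d41f0100a30de2682c8d02202484c8bf10443c5c8b4150434888c60c03b0890c3138308798121a63847488a1be1a06c90620e2bc4f0a00ea2946e02920618c330761122dc6f1041ae1d01c0a71964202890910a1ac270d81ca060480fc1ce3e02482d06e1f8228421801dc2d8ca004358510701522b86e81c00c24c390ff1564384788017a3345a8eb0283545807f21613c4386d1fa148268fe128408370560ba15c4887b02219c7789714c1c45201e0aa344078ba1ec2047d0aa076368628190683d07185f0f0058780cc0420e8670ee016274130960541506483308e1007683604e1304f8231080140e88305e168560e00121184a8791161b0298db04401c0f8ad188304098e20c8230800bc1e40fc5c0c70502202f0860b0188678080962385b07d1ea0c81e8e402e128158bb0581040504417c2346a0b30ca3a83080e13600c5900019010c1800c1f206c2402505c068120310723c41f07a0a02c44c03c0080540806901a0d450801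
def z5i : ℕ := 0x3c47a8ff1f42a87b10d13e424660ce1c6390890d41b6258880451582604d8c421e2040b8c221c20c1987a1da10c0707511a1c0328f214808874908186444638300f2120750581ce354588dd0a01f8728c81a62d8510251d6428431000721c45307419e2e03481b0803d03e84b1e03b8250bb1f809c538440582107c8411ac0d4528f8048074050a11c42c826059156200598f71a022c6f0892082d4008e00c2384370ef03e4087e8091181b02a89715c3f8488c51520d8130460a63a06b83e13a0f06585f0b83ec410a81402f81a1061200302a0771743606f8d22162b4450b42062544e05219441c020e611c364118471b40e8108f30f00f44990c1721688083b1242504386a0a22686680b13c3244c86206e0b8608150ce1585e8280342f015066084034188080fe1c8078d117e1900107b0d00c8080190b604c6002b05a1ac6e03f0c61b40a0110c013c3990509a2202e8b002c0483e0c605e1d8030a30923b04780510a080018180de0a42b83809c2bc2f00703c2dc0001c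

theorem z5_chk : chkInv 275 z5 z5i = true := by decide +kernel
theorem z5_rows : chkAutBlk 275 adjM z5 0 275 = true := by decide +kernel
theorem z5_five : chkPow 275 z5 5 = true := by decide +kernel
theorem z5_rel : allB (fun i => Nat.beq (lk z5 (lk t11 i)) (lk t11 (lk t11 (lk t11 (lk t11 (lk z5 i)))))) 275 = true := by
  decide +kernel
theorem z5_fix : ∃ i : Fin 275, lk z5 i = i := by decide +kernel
theorem z5_mov : ∃ i : Fin 275, lk z5 i ≠ i := by decide +kernel

theorem exists_z5 : ∃ t ∈ Hh, ∀ i : Fin 275, (t i : ℕ) = lk z5 i :=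
  ⟨mkPerm z5 z5i z5_chk, mkPerm_mem_autG z5_chk (rowsOK_of_chk (chkInv_lt z5_chk) (chkInv_inj z5_chk) z5_rows),
    fun _ => rfl⟩

/-- the centralizers of the elements of order 5 -/
theorem five {y : G1} (hy : orderOf y = 5) :
    Nat.card (centralizer ({y} : Set G1)) = 25 ∨ Nat.card (centralizer ({y} : Set G1)) = 750 := by
  have : Fact (Nat.Prime 5) := ⟨Nat.prime_five⟩
  have h1 : IsPGroup 5 (zpowers y) := IsPGroup.of_card (n := 1) (by rw [Nat.card_zpowers, hy, pow_one])
  obtain ⟨Q, hQ⟩ := h1.exists_le_sylow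
  have h125 : (898128000 : ℕ).factorization 5 = 3 := by
    rw [show (898128000 : ℕ) = 5 ^ 3 * 7185024 by norm_num, Nat.factorization_mul (by norm_num) (by norm_num),
      Nat.Prime.factorization_pow Nat.prime_five]
    simp [Nat.factorization_eq_zero_of_not_dvd]
  let P : Sylow 5 G1 := Sylow.ofCard P5 (by rw [card_P5, card_G1, h125]; norm_num)
  obtain ⟨g, hg⟩ := MulAction.exists_smul_eq G1 Q P
  have h2 : g * y * g⁻¹ ∈ P5 := by
    have h3 : ((g • Q : Sylow 5 G1) : Subgroup G1) = P5 := by rw [hg]; rfl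
    rw [← h3, Sylow.coe_subgroup_smul]
    exact Subgroup.smul_mem_pointwise_smul y (MulAut.conj g) (Q : Subgroup G1) (hQ (mem_zpowers y))
  by_cases h3 : g * y * g⁻¹ ∈ zpowers c
  · right
    rw [card_cent_of_mem Nat.prime_five order_c (by
      rintro rfl
      rw [orderOf_one] at hy
      norm_num at hy) h3]
    exact card_c
  · left
    rw [← card_cent_conj g y, card_cent_noncentral h2 h3]
    exact card_a

/-! ### pulling back -/

theorem pull {g : Perm (Fin 275)} (hg : g ∈ K0) : ∃ x : G1, ψ x = g := by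
  rw [← range_ψ] at hg
  exact hg

/-- the centralizers -/
theorem card_cent_e {A B : Type*} [Group A] [Group B] (e : A ≃* B) (x : A) :
    Nat.card (centralizer ({e x} : Set B)) = Nat.card (centralizer ({x} : Set A)) := by
  symm
  refine Nat.card_congr ⟨fun y => ⟨e y, ?_⟩, fun y => ⟨e.symm y, ?_⟩, fun y => ?_, fun y => ?_⟩
  · have h := mem_centralizer_singleton_iff.1 y.2
    rw [mem_centralizer_singleton_iff, ← map_mul, ← map_mul, h]
  · have h := mem_centralizer_singleton_iff.1 y.2
    rw [mem_centralizer_singleton_iff]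
    apply e.injective
    rw [map_mul, map_mul, e.apply_symm_apply, h]
  · exact Subtype.ext (e.symm_apply_apply _)
  · exact Subtype.ext (e.apply_symm_apply _)

theorem exists_of_gs (i : Fin 18) {m : ℕ} (hm : cs i = m) {k : ℕ} (hk : chkPow 275 (XT i) k = true) :
    ∃ x : G1, x ^ k = 1 ∧ Nat.card (centralizer ({x} : Set G1)) ≤ m := by
  refine ⟨eK0.symm (gs i), ?_, ?_⟩
  · rw [← map_pow]
    have h : (gs i) ^ k = 1 := Subtype.ext (pow_of_chk (gs_spec i) hk)
    rw [h, map_one]
  · rw [card_cent_e, ← hm]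
    exact cent_le i

theorem eight : ∃ x : G1, x ^ 2 ^ 3 = 1 ∧ Nat.card (centralizer ({x} : Set G1)) ≤ 8 :=
  exists_of_gs 10 rfl (by decide +kernel)

theorem nine : ∃ x : G1, x ^ 3 ^ 2 = 1 ∧ Nat.card (centralizer ({x} : Set G1)) ≤ 27 :=
  exists_of_gs 11 rfl (by decide +kernel)

/-- the Frobenius group of order 55 -/
theorem frob : ∃ u z : G1, orderOf u = 11 ∧ orderOf z = 5 ∧ z * u = u ^ 4 * z ∧
    Nat.card (centralizer ({z} : Set G1)) = 25 := by
  have : Fact (Nat.Prime 5) := ⟨Nat.prime_five⟩
  have : Fact (Nat.Prime 11) := ⟨by norm_num⟩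
  obtain ⟨w, hw, hwi⟩ := exists_z5
  have hw5 : w ^ 5 = 1 := pow_of_chk hwi z5_five
  have hwK : w ∈ K0 := by
    have h1 : w * w ∈ K0 := (two.mul_mem_iff hw hw).2 Iff.rfl
    have h2 : w = (w * w) * ((w * w) * (w * w)) := by
      have : w * w * (w * w * (w * w)) = w ^ 5 * w := by simp only [pow_succ, pow_zero, one_mul, mul_assoc]
      rw [this, hw5, one_mul]
    rw [h2]
    exact K0.mul_mem h1 (K0.mul_mem h1 h1)
  obtain ⟨v, hv, hvi⟩ := inT11
  obtain ⟨z, rfl⟩ := pull hwK
  obtain ⟨u, rfl⟩ := pull hv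
  have hz : orderOf z = 5 := by
    apply orderOf_eq_prime
    · apply ψ_injective
      rw [map_pow, hw5, map_one]
    · rintro rfl
      obtain ⟨i, hi⟩ := z5_mov
      apply hi
      rw [← hwi, map_one, Perm.one_apply]
  have hv11 : (ψ u) ^ 11 = 1 := by
    refine Equiv.ext fun i => Fin.ext ?_
    rw [pow_val hvi, Perm.one_apply]
    exact Nat.eq_of_beq_eq_true ((allB_iff _ _).1 e11g i i.2)
  have hu : orderOf u = 11 := by
    apply orderOf_eq_prime
    · apply ψ_injective
      rw [map_pow, hv11, map_one]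
    · rintro rfl
      have h1 : lk t11 (0 : Fin 275) ≠ (0 : Fin 275) := by decide +kernel
      apply h1
      rw [← hvi, map_one, Perm.one_apply]
  refine ⟨u, z, hu, hz, ?_, ?_⟩
  · apply ψ_injective
    refine Equiv.ext fun i => Fin.ext ?_
    have h1 := Nat.eq_of_beq_eq_true ((allB_iff _ _).1 z5_rel i i.2)
    rw [map_mul, map_mul, map_pow, Perm.mul_apply, Perm.mul_apply, hwi, hvi, h1]
    simp only [pow_succ, pow_zero, one_mul, Perm.mul_apply, hvi, hwi]
  · rcases five hz with h | h
    · exact h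
    · exfalso
      obtain ⟨i, hi⟩ := z5_fix
      have h1 := type_b hz (i := i) (Fin.ext (by rw [hwi, hi]))
      omega

end Cfsg.Agent.H757.S8.McL
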